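import Mathlib.Algebra.Order.Ring.Int
import Mathlib.Data.Finset.Powerset
import Mathlib.Data.Finset.Card
import Mathlib.Data.Int.LeastGreatest
import Mathlib.Tactic

/-!
# The combinatorics of the modification process
-/

set_option autoImplicit false
set_option linter.unusedSectionVars false

namespace TFExtLib

variable {α ι : Type*} [DecidableEq ι]

/-- The numerical properties of modifications. -/
structure Langton (α : Type*) {ι : Type*} [DecidableEq ι] (g : Finset ι) where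
  /-- Euler characteristics of quotients -/
  c : α → Finset ι → ℤ
  /-- the modification relation -/
  step : Finset ι → α → α → Prop
  /-- admissible objects -/
  P : α → Prop
  exists_step : ∀ {a S}, P a → S ⊆ g → ∃ b, step S a b
  P_step : ∀ {a b S}, P a → S ⊆ g → step S a b → P b
  c_step : ∀ {a b S}, P a → S ⊆ g → step S a b → c b g = c a g
  compare : ∀ {a b S T}, P a → S ⊆ g → T ⊆ g → step S a b → c a (S ∩ T) + c a (S ∪ T) ≤ c b T + c a S
  compl : ∀ {a b S}, P a → S ⊆ g → step S a b → c b (g \ S) = c a g - c a S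
  submod : ∀ {a S T}, P a → S ⊆ g → T ⊆ g → c a (S ∪ T) + c a (S ∩ T) ≤ c a S + c a T
  c_empty : ∀ {a}, P a → c a ∅ = 0

variable {g : Finset ι} (L : Langton α g)

/-- The object splits along `S`. -/
def Langton.Dec (a : α) (S : Finset ι) : Prop := L.c a S + L.c a (g \ S) = L.c a g

theorem exists_seq (Q : α → Prop) (S : Finset ι) (h : ∀ a, Q a → ∃ b, L.step S a b ∧ Q b) {a : α} (ha : Q a) :
    ∃ In : ℕ → α, In 0 = a ∧ (∀ n, Q (In n)) ∧ ∀ n, L.step S (In n) (In (n + 1)) := by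
  choose nx h1 h2 using fun a : {a // Q a} => h a.1 a.2
  let sq : ℕ → {a // Q a} := fun n => Nat.rec ⟨a, ha⟩ (fun _ x => ⟨nx x, h2 x⟩) n
  exact ⟨fun n => (sq n).1, rfl, fun n => (sq n).2, fun n => h1 (sq n)⟩

section Stable

variable (r : ℕ) (D : Finset ι → ℤ)
  (hD : ∀ S T : Finset ι, S ⊆ g → T ⊆ g → D (S ∩ T) + D (S ∪ T) = D S + D T) (hD0 : D ∅ = 0)
  (hg : ∀ a, L.P a → r * L.c a g + D g = 0)

/-- The numbers whose signs define stability. -/
def Langton.beta (a : α) (S : Finset ι) : ℤ := r * L.c a S + D S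

include hD in
theorem beta_submod {a : α} (ha : L.P a) {S T : Finset ι} (hS : S ⊆ g) (hT : T ⊆ g) :
    L.beta r D a (S ∪ T) + L.beta r D a (S ∩ T) ≤ L.beta r D a S + L.beta r D a T := by
  have := mul_le_mul_of_nonneg_left (L.submod ha hS hT) (Int.natCast_nonneg r)
  have := hD S T hS hT
  simp only [Langton.beta]
  linarith

include hD in
theorem beta_compare {a b : α} (ha : L.P a) {S T : Finset ι} (hS : S ⊆ g) (hT : T ⊆ g) (h : L.step S a b) :
    L.beta r D a (S ∪ T) + L.beta r D a (S ∩ T) ≤ L.beta r D b T + L.beta r D a S := by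
  have := mul_le_mul_of_nonneg_left (L.compare ha hS hT h) (Int.natCast_nonneg r)
  have := hD S T hS hT
  simp only [Langton.beta]
  linarith

theorem dec_of_eq (hr : 0 < r) {a b : α} {S : Finset ι} (ha : L.P a) (hS : S ⊆ g) (h : L.step S a b)
    (he : L.beta r D b S = L.beta r D a S) : L.Dec b S := by
  have h1 : L.c b S = L.c a S := mul_left_cancel₀ (Int.natCast_ne_zero.mpr hr.ne') (by
    simp only [Langton.beta] at he
    linarith)
  simp only [Langton.Dec, h1, L.compl ha hS h, L.c_step ha hS h]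
  ring

include hD hD0 hg in
theorem exists_semistable (hr : 0 < r) {a₀ : α} (ha₀ : L.P a₀)
    (hno : ∀ (In : ℕ → α) (S : Finset ι), S ⊆ g → (∀ n, L.P (In n)) → (∀ n, L.step S (In n) (In (n + 1))) →
      (∀ n, L.Dec (In n) S) → L.beta r D (In 0) S < 0 → False) :
    ∃ a, L.P a ∧ ∀ S, S ⊆ g → 0 ≤ L.beta r D a S := by
  classical
  by_contra hcon
  push Not at hcon
  -- the minimum and the largest minimiser
  let IsMin : α → Finset ι → Prop := fun a S => S ⊆ g ∧ (∀ T, T ⊆ g → L.beta r D a S ≤ L.beta r D a T) ∧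
    ∀ T, T ⊆ g → L.beta r D a T = L.beta r D a S → T ⊆ S
  have hmin : ∀ a, L.P a → ∃ S, IsMin a S := fun a ha => by
    obtain ⟨S₀, hS₀, hle⟩ := Finset.exists_min_image g.powerset (L.beta r D a) ⟨∅, by simp⟩
    simp only [Finset.mem_powerset] at hS₀ hle
    obtain ⟨S, hS, hmax⟩ := Finset.exists_max_image
      (g.powerset.filter fun T => L.beta r D a T = L.beta r D a S₀) Finset.card ⟨S₀, by simp [hS₀]⟩
    simp only [Finset.mem_filter, Finset.mem_powerset] at hS hmax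
    refine ⟨S, hS.1, fun T hT => hS.2.le.trans (hle T hT), fun T hT e => ?_⟩
    have h1 := beta_submod L r D hD ha hS.1 hT
    have h2 := hle _ (Finset.union_subset hS.1 hT)
    have h3 := hle (S ∩ T) (Finset.inter_subset_left.trans hS.1)
    have h4 := hmax (S ∪ T) ⟨Finset.union_subset hS.1 hT, by linarith [hS.2]⟩
    exact (Finset.eq_of_subset_of_card_le Finset.subset_union_left h4) ▸ Finset.subset_union_right
  obtain ⟨S₁, hS₁⟩ := hmin a₀ ha₀
  obtain ⟨m, ⟨a₁, T₁, ha₁, hT₁, hm⟩, hbest⟩ := Int.exists_greatest_of_bdd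
    (P := fun z => ∃ a S, L.P a ∧ IsMin a S ∧ L.beta r D a S = z)
    ⟨0, fun z ⟨a, S, ha, hS, hz⟩ => hz ▸ (hS.2.1 ∅ (Finset.empty_subset g)).trans
      (by simp [Langton.beta, L.c_empty ha, hD0])⟩ ⟨_, a₀, S₁, ha₀, hS₁, rfl⟩
  have hm0 : m < 0 := by
    obtain ⟨S, hS, hlt⟩ := hcon a₁ ha₁
    exact hm ▸ lt_of_le_of_lt (hT₁.2.1 S hS) hlt
  have hex : ∃ n, ∃ a S, L.P a ∧ IsMin a S ∧ L.beta r D a S = m ∧ S.card = n := ⟨_, a₁, T₁, ha₁, hT₁, hm, rfl⟩
  obtain ⟨a, S, ha, hS, hval, hcard⟩ := Nat.find_spec hex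
  have key : ∀ b, (L.P b ∧ IsMin b S ∧ L.beta r D b S = m) → ∃ b', L.step S b b' ∧
      ((L.P b' ∧ IsMin b' S ∧ L.beta r D b' S = m) ∧ L.Dec b' S) := by
    rintro b ⟨hb, hbS, hbv⟩
    obtain ⟨b', hb'⟩ := L.exists_step hb hbS.1
    have hP := L.P_step hb hbS.1 hb'
    have hge : ∀ T, T ⊆ g → m ≤ L.beta r D b' T ∧ (L.beta r D b' T = m → T ⊆ S) := fun T hT => by
      have h1 := beta_compare L r D hD hb hbS.1 hT hb'
      have h2 := hbS.2.1 _ (Finset.union_subset hbS.1 hT)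
      have h3 := hbS.2.1 (S ∩ T) (Finset.inter_subset_left.trans hbS.1)
      exact ⟨by linarith, fun e => Finset.subset_union_right.trans
        (hbS.2.2 _ (Finset.union_subset hbS.1 hT) (by linarith))⟩
    obtain ⟨S', hS'⟩ := hmin b' hP
    have hv' : L.beta r D b' S' = m :=
      le_antisymm (hbest _ ⟨b', S', hP, hS', rfl⟩) (hge S' hS'.1).1
    have hsub := (hge S' hS'.1).2 hv'
    have hc : S.card ≤ S'.card := hcard ▸ Nat.find_min' hex ⟨b', S', hP, hS', hv', rfl⟩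
    obtain rfl := Finset.eq_of_subset_of_card_le hsub hc
    exact ⟨b', hb', ⟨hP, hS', hv'⟩, dec_of_eq L r D hr hb hbS.1 hb' (hv'.trans hbv.symm)⟩
  obtain ⟨b, -, hb, hbd⟩ := key a ⟨ha, hS, hval⟩
  obtain ⟨In, h0, hQ, hstep⟩ := exists_seq L (fun b => (L.P b ∧ IsMin b S ∧ L.beta r D b S = m) ∧ L.Dec b S) S
    (fun b hb => key b hb.1) (a := b) ⟨hb, hbd⟩
  exact hno In S hS.1 (fun n => (hQ n).1.1) hstep (fun n => (hQ n).2) (by rw [(hQ 0).1.2.2]; exact hm0)

include hD hg in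
theorem exists_quasistable (hr : 0 < r) {w : ι} (hw : w ∈ g) {a₀ : α} (ha₀ : L.P a₀)
    (hss₀ : ∀ S, S ⊆ g → 0 ≤ L.beta r D a₀ S)
    (hno : ∀ (In : ℕ → α) (S : Finset ι), S ⊆ g → S ≠ g → w ∈ S → (∀ n, L.P (In n)) →
      (∀ n, L.step S (In n) (In (n + 1))) → (∀ n, L.Dec (In n) S) → L.beta r D (In 0) S = 0 → False) :
    ∃ a, L.P a ∧ (∀ S, S ⊆ g → 0 ≤ L.beta r D a S) ∧
      ∀ S, S ⊆ g → S ≠ g → w ∈ S → 0 < L.beta r D a S := by
  classical
  by_contra hcon
  push Not at hcon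
  let SS : α → Prop := fun a => L.P a ∧ ∀ S, S ⊆ g → 0 ≤ L.beta r D a S
  let IsMin : α → Finset ι → Prop := fun a S => S ⊆ g ∧ w ∈ S ∧ L.beta r D a S = 0 ∧
    ∀ T, T ⊆ g → w ∈ T → L.beta r D a T = 0 → S ⊆ T
  have hmin : ∀ a, SS a → ∃ S, IsMin a S := fun a ha => by
    obtain ⟨S, hS, hle⟩ := Finset.exists_min_image
      (g.powerset.filter fun T => w ∈ T ∧ L.beta r D a T = 0) Finset.card
      ⟨g, by simp [hw, Langton.beta, hg a ha.1]⟩
    simp only [Finset.mem_filter, Finset.mem_powerset] at hS hle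
    refine ⟨S, hS.1, hS.2.1, hS.2.2, fun T hT hwT e => ?_⟩
    have hI : S ∩ T ⊆ g := Finset.inter_subset_left.trans hS.1
    have h1 := beta_submod L r D hD ha.1 hS.1 hT
    have h2 := ha.2 _ (Finset.union_subset hS.1 hT)
    have h3 := ha.2 _ hI
    have h4 := hle (S ∩ T) ⟨hI, Finset.mem_inter.mpr ⟨hS.2.1, hwT⟩, by linarith [hS.2.2]⟩
    exact (Finset.eq_of_subset_of_card_le Finset.inter_subset_left h4).ge.trans Finset.inter_subset_right
  obtain ⟨S₁, hS₁⟩ := hmin a₀ ⟨ha₀, hss₀⟩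
  have hex : ∃ n, ∃ a S, SS a ∧ IsMin a S ∧ g.card - S.card = n := ⟨_, a₀, S₁, ⟨ha₀, hss₀⟩, hS₁, rfl⟩
  obtain ⟨a, S, ha, hS, hcard⟩ := Nat.find_spec hex
  have hne : S ≠ g := fun e => by
    obtain ⟨T, hT, hTg, hwT, hle⟩ := hcon a ha.1 ha.2
    exact hTg (Finset.Subset.antisymm hT (e ▸ hS.2.2.2 T hT hwT (le_antisymm hle (ha.2 T hT))))
  have key : ∀ b, (SS b ∧ IsMin b S) → ∃ b', L.step S b b' ∧ ((SS b' ∧ IsMin b' S) ∧ L.Dec b' S) := by
    rintro b ⟨hb, hbS⟩
    obtain ⟨b', hb'⟩ := L.exists_step hb.1 hbS.1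
    have hP := L.P_step hb.1 hbS.1 hb'
    have hge : ∀ T, T ⊆ g → 0 ≤ L.beta r D b' T ∧ (w ∈ T → L.beta r D b' T = 0 → S ⊆ T) := fun T hT => by
      have h1 := beta_compare L r D hD hb.1 hbS.1 hT hb'
      have h2 := hb.2 _ (Finset.union_subset hbS.1 hT)
      have h3 := hb.2 (S ∩ T) (Finset.inter_subset_left.trans hbS.1)
      have h4 := hbS.2.2.1
      exact ⟨by linarith, fun hwT e => (hbS.2.2.2 _ (Finset.inter_subset_left.trans hbS.1)
        (Finset.mem_inter.mpr ⟨hbS.2.1, hwT⟩) (by linarith)).trans Finset.inter_subset_right⟩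
    have hSS : SS b' := ⟨hP, fun T hT => (hge T hT).1⟩
    obtain ⟨S', hS'⟩ := hmin b' hSS
    have hsub := (hge S' hS'.1).2 hS'.2.1 hS'.2.2.1
    have hc : g.card - S.card ≤ g.card - S'.card := hcard ▸ Nat.find_min' hex ⟨b', S', hSS, hS', rfl⟩
    have := Finset.card_le_card hS'.1
    obtain rfl := Finset.eq_of_subset_of_card_le hsub (by have := Finset.card_le_card hbS.1; omega)
    exact ⟨b', hb', ⟨hSS, hS'⟩, dec_of_eq L r D hr hb.1 hbS.1 hb' (hS'.2.2.1.trans hbS.2.2.1.symm)⟩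
  obtain ⟨b, -, hb, hbd⟩ := key a ⟨ha, hS⟩
  obtain ⟨In, h0, hQ, hstep⟩ := exists_seq L (fun b => (SS b ∧ IsMin b S) ∧ L.Dec b S) S
    (fun b hb => key b hb.1) (a := b) ⟨hb, hbd⟩
  exact hno In S hS.1 hne hS.2.1 (fun n => (hQ n).1.1.1) hstep (fun n => (hQ n).2) (hQ 0).1.2.2.2.1

include hD hD0 hg in
theorem semistable_step {a b : α} {U : Finset ι} (ha : L.P a) (hss : ∀ S, S ⊆ g → 0 ≤ L.beta r D a S)
    (hU : U ⊆ g) (hd : L.Dec a U) (h : L.step U a b) : ∀ S, S ⊆ g → 0 ≤ L.beta r D b S := fun T hT => by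
  have h1 := beta_compare L r D hD ha hU hT h
  have h2 := hss _ (Finset.union_subset hU hT)
  have h3 := hss (U ∩ T) (Finset.inter_subset_left.trans hU)
  have h5 := hss (g \ U) Finset.sdiff_subset
  have e := hD U (g \ U) hU Finset.sdiff_subset
  rw [Finset.union_sdiff_of_subset hU, Finset.inter_sdiff_self, hD0] at e
  have e0 : L.beta r D a U + L.beta r D a (g \ U) = 0 := by
    simp only [Langton.beta]
    simp only [Langton.Dec] at hd
    have := hg a ha
    rw [← hd] at this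
    linarith
  linarith

end Stable

section Simple

/-- The defect of splitting. -/
def Langton.defect (a : α) (S : Finset ι) : ℤ := L.c a S + L.c a (g \ S) - L.c a g

theorem defect_nonneg {a : α} (ha : L.P a) {S : Finset ι} (hS : S ⊆ g) : 0 ≤ L.defect a S := by
  have h := L.submod (S := S) (T := g \ S) ha hS Finset.sdiff_subset
  rw [Finset.union_sdiff_of_subset hS, Finset.inter_sdiff_self, L.c_empty ha] at h
  simp only [Langton.defect]
  linarith

theorem defect_inter {a : α} (ha : L.P a) {S T : Finset ι} (hS : S ⊆ g) (hT : T ⊆ g)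
    (h1 : L.Dec a S) (h2 : L.Dec a T) : L.Dec a (S ∩ T) := by
  have hI : S ∩ T ⊆ g := Finset.inter_subset_left.trans hS
  have a1 := L.submod ha hS hT
  have a2 := L.submod ha (S := g \ S) (T := g \ T) Finset.sdiff_subset Finset.sdiff_subset
  rw [show g \ S ∪ g \ T = g \ (S ∩ T) by grind, show (g \ S) ∩ (g \ T) = g \ (S ∪ T) by grind] at a2
  have a3 := defect_nonneg L ha (Finset.union_subset hS hT)
  have a4 := defect_nonneg L ha hI
  simp only [Langton.Dec, Langton.defect] at *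
  linarith

theorem dec_of_modification {a b : α} (ha : L.P a) {S U T : Finset ι} (hS : S ⊆ g) (hT : T ⊆ g)
    (hd : L.Dec a S) (hU : U = S ∨ U = g \ S) (hstep : L.step U a b) (hb : L.Dec b T) :
    L.Dec a (S ∩ T) := by
  have hU' : U ⊆ g := by rcases hU with rfl | rfl <;> [exact hS; exact Finset.sdiff_subset]
  have hT' : g \ T ⊆ g := Finset.sdiff_subset
  have hI : S ∩ T ⊆ g := Finset.inter_subset_left.trans hS
  have hP := L.P_step ha hU' hstep
  have c1 := L.compare ha hU' hT hstep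
  have c2 := L.compare ha hU' hT' hstep
  have e := L.c_step ha hU' hstep
  have a4 := defect_nonneg L ha hI
  have key : L.c a (S ∩ T) + L.c a (S \ T) ≤ L.c a S := by
    rcases hU with rfl | rfl
    · rw [show U ∩ (g \ T) = U \ T by grind] at c2
      have s1 := L.submod (S := U ∪ T) (T := U ∪ g \ T) ha (Finset.union_subset hS hT) (Finset.union_subset hS hT')
      rw [show U ∪ T ∪ (U ∪ g \ T) = g by grind, show (U ∪ T) ∩ (U ∪ g \ T) = U by grind] at s1
      simp only [Langton.Dec] at hb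
      linarith
    · rw [show (g \ S) ∪ T = (g \ S) ∪ (S ∩ T) by grind] at c1
      rw [show (g \ S) ∪ g \ T = (g \ S) ∪ S \ T by grind] at c2
      have s1 := L.submod (S := S) (T := (g \ S) ∪ (S ∩ T)) ha hS (Finset.union_subset Finset.sdiff_subset hI)
      rw [show S ∪ ((g \ S) ∪ (S ∩ T)) = g by grind, show S ∩ ((g \ S) ∪ (S ∩ T)) = S ∩ T by grind] at s1
      have s2 := L.submod (S := S) (T := (g \ S) ∪ S \ T) ha hS
        (Finset.union_subset Finset.sdiff_subset (Finset.sdiff_subset.trans hS))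
      rw [show S ∪ ((g \ S) ∪ S \ T) = g by grind, show S ∩ ((g \ S) ∪ S \ T) = S \ T by grind] at s2
      have s3 := L.submod (S := (g \ S) ∩ T) (T := (g \ S) ∩ (g \ T)) ha
        (Finset.inter_subset_right.trans hT) (Finset.inter_subset_right.trans hT')
      rw [show (g \ S) ∩ T ∪ (g \ S) ∩ (g \ T) = g \ S by grind,
        show (g \ S) ∩ T ∩ ((g \ S) ∩ (g \ T)) = ∅ by grind, L.c_empty ha] at s3
      simp only [Langton.Dec] at hb hd
      linarith
  have s4 := L.submod (S := S \ T) (T := g \ S) ha (Finset.sdiff_subset.trans hS) Finset.sdiff_subset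
  rw [show S \ T ∪ g \ S = g \ (S ∩ T) by grind, show S \ T ∩ (g \ S) = ∅ by grind, L.c_empty ha] at s4
  simp only [Langton.Dec, Langton.defect] at *
  linarith

theorem exists_simple {w : ι} (hw : w ∈ g) (Q : α → Prop)
    (hQs : ∀ {a b : α} {U : Finset ι}, L.P a → Q a → U ⊆ g → L.Dec a U → L.step U a b → Q b)
    {a₀ : α} (ha₀ : L.P a₀) (hq₀ : Q a₀)
    (hno : ∀ (In In' : ℕ → α) (S : Finset ι), S ⊆ g → S ≠ g → w ∈ S → In 0 = In' 0 →
      (∀ n, L.P (In n)) → (∀ n, L.P (In' n)) →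
      (∀ n, L.step S (In n) (In (n + 1))) → (∀ n, L.step (g \ S) (In' n) (In' (n + 1))) →
      (∀ n, L.Dec (In n) S) → (∀ n, L.Dec (In' n) S) → False) :
    ∃ a, L.P a ∧ Q a ∧ ∀ S, S ⊆ g → S.Nonempty → S ≠ g → ¬ L.Dec a S := by
  classical
  by_contra hcon
  push Not at hcon
  let IsMin : α → Finset ι → Prop := fun a S => S ⊆ g ∧ w ∈ S ∧ L.Dec a S ∧
    ∀ T, T ⊆ g → w ∈ T → L.Dec a T → S ⊆ T
  have hmin : ∀ a, L.P a → ∃ S, IsMin a S := fun a ha => by
    obtain ⟨S, hS, hle⟩ := Finset.exists_min_image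
      (g.powerset.filter fun T => w ∈ T ∧ L.Dec a T) Finset.card
      ⟨g, by simp [hw, Langton.Dec, L.c_empty ha]⟩
    simp only [Finset.mem_filter, Finset.mem_powerset] at hS hle
    refine ⟨S, hS.1, hS.2.1, hS.2.2, fun T hT hwT e => ?_⟩
    have h4 := hle (S ∩ T) ⟨Finset.inter_subset_left.trans hS.1, Finset.mem_inter.mpr ⟨hS.2.1, hwT⟩,
      defect_inter L ha hS.1 hT hS.2.2 e⟩
    exact (Finset.eq_of_subset_of_card_le Finset.inter_subset_left h4).ge.trans Finset.inter_subset_right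
  obtain ⟨S₁, hS₁⟩ := hmin a₀ ha₀
  have hex : ∃ n, ∃ a S, (L.P a ∧ Q a) ∧ IsMin a S ∧ g.card - S.card = n := ⟨_, a₀, S₁, ⟨ha₀, hq₀⟩, hS₁, rfl⟩
  obtain ⟨a, S, ⟨ha, hqa⟩, hS, hcard⟩ := Nat.find_spec hex
  have hne : S ≠ g := fun e => by
    obtain ⟨T, hT, hTne, hTg, hdec⟩ := hcon a ha hqa
    by_cases hwT : w ∈ T
    · exact hTg (Finset.Subset.antisymm hT (e ▸ hS.2.2.2 T hT hwT hdec))
    · have h' : L.Dec a (g \ T) := by
        simp only [Langton.Dec] at hdec ⊢
        rw [Finset.sdiff_sdiff_eq_self hT]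
        linarith
      have h2 := e ▸ hS.2.2.2 _ Finset.sdiff_subset (Finset.mem_sdiff.mpr ⟨hw, hwT⟩) h'
      obtain ⟨x, hx⟩ := hTne
      exact (Finset.mem_sdiff.mp (h2 (hT hx))).2 hx
  have key : ∀ U, U = S ∨ U = g \ S → ∀ b, ((L.P b ∧ Q b) ∧ IsMin b S) → ∃ b', L.step U b b' ∧ ((L.P b' ∧ Q b') ∧ IsMin b' S) := by
    rintro U hU b ⟨⟨hb, hqb⟩, hbS⟩
    have hU' : U ⊆ g := by rcases hU with rfl | rfl <;> [exact hbS.1; exact Finset.sdiff_subset]
    obtain ⟨b', hb'⟩ := L.exists_step hb hU'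
    have hP := L.P_step hb hU' hb'
    have hdU : L.Dec b U := by
      rcases hU with rfl | rfl
      · exact hbS.2.2.1
      · have := hbS.2.2.1
        simp only [Langton.Dec] at this ⊢
        rw [Finset.sdiff_sdiff_eq_self hbS.1]
        linarith
    have hqb' := hQs hb hqb hU' hdU hb'
    obtain ⟨S', hS'⟩ := hmin b' hP
    have hsub : S ⊆ S' :=
      (hbS.2.2.2 _ (Finset.inter_subset_left.trans hbS.1) (Finset.mem_inter.mpr ⟨hbS.2.1, hS'.2.1⟩)
        (dec_of_modification L hb hbS.1 hS'.1 hbS.2.2.1 hU hb' hS'.2.2.1)).trans Finset.inter_subset_right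
    have hc : g.card - S.card ≤ g.card - S'.card := hcard ▸ Nat.find_min' hex ⟨b', S', ⟨hP, hqb'⟩, hS', rfl⟩
    have := Finset.card_le_card hS'.1
    obtain rfl := Finset.eq_of_subset_of_card_le hsub (by have := Finset.card_le_card hbS.1; omega)
    exact ⟨b', hb', ⟨hP, hqb'⟩, hS'⟩
  obtain ⟨In, h0, hQ, hstep⟩ := exists_seq L (fun b => (L.P b ∧ Q b) ∧ IsMin b S) S (key S (Or.inl rfl)) (a := a) ⟨⟨ha, hqa⟩, hS⟩
  obtain ⟨In', h0', hQ', hstep'⟩ := exists_seq L (fun b => (L.P b ∧ Q b) ∧ IsMin b S) (g \ S) (key _ (Or.inr rfl))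
    (a := a) ⟨⟨ha, hqa⟩, hS⟩
  exact hno In In' S hS.1 hne hS.2.1 (h0.trans h0'.symm) (fun n => (hQ n).1.1) (fun n => (hQ' n).1.1) hstep hstep'
    (fun n => (hQ n).2.2.2.1) (fun n => (hQ' n).2.2.2.1)

end Simple

end TFExtLib
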