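import Groth.Agent.TFExtLib.Lattice
import Groth.Agent.TFModLib.Degree
import Groth.Agent.TFModLib.Tower

/-!
# Arbitrary quotients of semistable sheaves
-/

set_option autoImplicit false
set_option linter.style.haveILetI false
set_option linter.unusedSectionVars false

universe u

open CategoryTheory CategoryTheory.Limits AlgebraicGeometry TopologicalSpace Opposite
open DevissLib IntMultLib TFQuotLib TFModLib

noncomputable section

namespace TFExtLib

variable {k : Type u} [Field k] {X : Scheme.{u}} [X.Over (Spec (CommRingCat.of k))]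
  [IsProper (X ↘ Spec (CommRingCat.of k))] [AlgebraicGeometry.IsNoetherian X] [IsReduced X]

theorem euler_nonneg_of_generic (hd : topologicalKrullDim X ≤ 1) {Q : X.Modules} (hQ : Coh.IsCoh Q)
    (h : ∀ η ∈ genericPoints X, η ∉ CohB1.support Q) : 0 ≤ Curv2.euler k X Q := by
  rcases Set.eq_empty_or_nonempty (CohB1.support Q) with he | hne
  · exact (euler_eq_zero_of_support hQ he).ge
  have hle : topologicalKrullDim (CohB1.support Q) ≤ 0 := by
    refine CurvLib.dim_le_zero_of_no_maximal hd (QCohLib.isClosed_support Q hQ.2) fun x hx => ?_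
    by_contra hn
    push Not at hn
    exact h x (mem_genericPoints hn) hx
  have hge : (0 : WithBot ℕ∞) ≤ topologicalKrullDim (CohB1.support Q) := by
    haveI : Nonempty (IrreducibleCloseds (CohB1.support Q)) :=
      ⟨⟨closure {⟨_, hne.some_mem⟩}, isIrreducible_singleton.closure, isClosed_closure⟩⟩
    exact Order.krullDim_nonneg
  exact (IntMultLib.euler_pos_of_dim_zero (k := k) hQ (le_antisymm hle hge)).le

variable (hd : topologicalKrullDim X ≤ 1) {r : ℕ} {E : X.Modules} (hE : FlatMod.IsFinLocFreeOfRank r E)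
  {M : X.Modules} (hM : TFOne.IsTF1 X M)

include hd hE hM in
/-- The number of a subcurve is the Euler characteristic of the twisted quotient. -/
theorem rBeta_eq {Z : Set X} (hZ : IsClosed Z) {G : X.Modules} {π : M ⟶ G} (h : TFOne.IsQuotOn X M Z G π) :
    TFOne.rBeta X k (X ↘ Spec (CommRingCat.of k)) Z hZ E r G = Curv2.euler k X (CohB1.tensorMod G E) := by
  classical
  obtain ⟨D, h1, -, -, -, h5⟩ := exists_degFun' (k := k) hd hE
  have h2 := h5 G Z h.2.1 fun η hη => len_quot hM h hη
  show (r : ℤ) * Curv2.euler k X G + _ = _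
  rw [h1 Z hZ]
  omega

include hd hE hM in
/-- An arbitrary quotient dominates a torsion free one. -/
theorem exists_quot_of_epi {N : X.Modules} (hN : Coh.IsCoh N) (p : M ⟶ N) [Epi p] :
    ∃ (T : Finset X) (G : X.Modules) (π : M ⟶ G), T ⊆ gens X ∧ TFOne.IsQuotOn X M (cl T) G π ∧
      (T = gens X → Mono p) ∧
      Curv2.euler k X (CohB1.tensorMod G E) ≤ Curv2.euler k X (CohB1.tensorMod N E) ∧
      (0 < r → Curv2.euler k X (CohB1.tensorMod N E) = Curv2.euler k X (CohB1.tensorMod G E) →
        CohB1.support N = cl T) := by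
  classical
  let T := gensIn (CohB1.support N)
  have hT : T ⊆ gens X := gensIn_subset _
  have hm : ∀ η ∈ genericPoints X, η ∈ cl T ↔ η ∈ CohB1.support N := fun η hη => by
    rw [mem_cl hT hη, mem_gensIn]
    exact and_iff_right hη
  obtain ⟨G, π, hG⟩ := exists_quot hM (gdense_cl hT)
  haveI := hG.1
  haveI := hM.1.1
  haveI := hN.1
  have hK : Coh.IsCoh (kernel p) := QCohLib.isCoh_kernel p hM.1 hN.1
  have hS : (ShortComplex.mk (kernel.ι p) p (kernel.condition p)).ShortExact :=
    { exact := ShortComplex.exact_of_f_is_kernel _ (kernelIsKernel p) }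
  have hlen : ∀ η ∈ genericPoints X, len (kernel p) η + len N η = 1 := fun η hη => by
    rw [← len_rkOne hM hη]
    exact (len_add hS η).symm
  have hpos : ∀ η ∈ genericPoints X, η ∈ CohB1.support N → len (kernel p) η = 0 ∧ len N η = 1 := fun η hη hs => by
    have h0 : len N η ≠ 0 := fun h => hs (Module.length_eq_zero_iff.mp h)
    have := hlen η hη
    generalize len (kernel p) η = a at this ⊢
    generalize len N η = b at this h0 ⊢
    cases a with
    | top => simp at this
    | coe a =>
      cases b with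
      | top => simp at this
      | coe b => norm_cast at this h0 ⊢; omega
  have hinj : ∀ η ∈ genericPoints X, η ∈ CohB1.support N → ∀ v, ((St η).map p).hom v = 0 → v = 0 :=
    fun η hη hs v hv => by
      obtain ⟨w, rfl⟩ := exists_of_kernel p η hv
      have hsub : Subsingleton ((kernel p).presheaf.stalk η) :=
        Module.length_eq_zero_iff.mp (hpos η hη hs).1
      rw [show w = 0 from hsub.elim _ _, map_zero]
  have hz : kernel.ι p ≫ π = 0 := eq_zero_of_generic _ hK.1 hG.2.1 hG.2.2.1 fun η hη =>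
    ModuleCat.hom_ext (LinearMap.ext fun v => by
      show ((St η).map (kernel.ι p ≫ π)).hom v = 0
      rw [TFModLib.stalk_comp]
      by_cases hs : η ∈ CohB1.support N
      · rw [hinj η hη hs _ (stalk_comp_zero _ _ (kernel.condition p) η v), map_zero]
      · haveI : Subsingleton ((St η).obj G) := not_not.mp fun hh => hs ((hm η hη).mp (hG.2.2.2 ▸ hh))
        exact Subsingleton.elim _ _)
  let q : N ⟶ G := (Abelian.epiIsCokernelOfKernel _ (kernelIsKernel p)).desc (CokernelCofork.ofπ π hz)
  have hq : p ≫ q = π :=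
    (Abelian.epiIsCokernelOfKernel _ (kernelIsKernel p)).fac (CokernelCofork.ofπ π hz) WalkingParallelPair.one
  haveI : Epi q := by
    haveI : Epi (p ≫ q) := hq.symm ▸ ‹Epi π›
    exact epi_of_epi p q
  have hQ : Coh.IsCoh (kernel q) := QCohLib.isCoh_kernel q hN hG.2.1.1
  have hS' : (ShortComplex.mk (kernel.ι q) q (kernel.condition q)).ShortExact :=
    { exact := ShortComplex.exact_of_f_is_kernel _ (kernelIsKernel q) }
  have hlN : ∀ η ∈ genericPoints X, len N η = if η ∈ cl T then 1 else 0 := fun η hη => by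
    split_ifs with h
    · exact (hpos η hη ((hm η hη).mp h)).2
    · exact len_eq_zero fun hs => h ((hm η hη).mpr hs)
  have hQg : ∀ η ∈ genericPoints X, η ∉ CohB1.support (kernel q) := fun η hη hs => hs (Module.length_eq_zero_iff.mp (by
    have el := len_add hS' η
    simp only at el
    rw [hlN η hη, len_quot hM hG hη] at el
    change len (kernel q) η = 0
    generalize len (kernel q) η = l at el ⊢
    cases l with
    | top => by_cases h : η ∈ cl T <;> simp [h] at el
    | coe l => by_cases h : η ∈ cl T <;> simp [h] at el <;> norm_cast at el ⊢ <;> omega))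
  have eN := CurvLib.euler_add_of_isCoh (k := k) hS' hQ hN hG.2.1
  simp only at eN
  obtain ⟨D, -, -, -, -, h5⟩ := exists_degFun' (k := k) hd hE
  have a1 := h5 N (cl T) hN hlN
  have a2 := h5 G (cl T) hG.2.1 fun η hη => len_quot hM hG hη
  have hQ0 := euler_nonneg_of_generic (k := k) hd hQ hQg
  refine ⟨T, G, π, hT, hG, fun hT' => ?_, ?_, fun hr he => ?_⟩
  · refine mono_of_generic p hM.1 hM.2.1 hN.1 fun η hη =>
      (injective_iff_map_eq_zero _).mpr fun v hv => hinj η hη ?_ v hv
    exact (hm η hη).mp ((mem_cl hT hη).mpr (hT' ▸ mem_gens.mpr hη))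
  · nlinarith
  · have h0 : (r : ℤ) * Curv2.euler k X (kernel q) = 0 := by
      rw [eN] at a1
      linarith
    have hz0 := isZero_of_euler_eq_zero (k := k) hd hQ hQg
      ((mul_eq_zero.mp h0).resolve_left (by exact_mod_cast hr.ne'))
    haveI : Mono q := Preadditive.mono_of_isZero_kernel q hz0
    haveI := isIso_of_mono_of_epi q
    rw [DevissLib.support_iso (asIso q)]
    exact hG.2.2.2

variable (y : X) (h0 : Curv2.euler k X (CohB1.tensorMod M E) = 0)

include hd hE hM h0 in
theorem euler_tensor_quot_top {T : Finset X} (hT : T ⊆ gens X) {G : X.Modules} {π : M ⟶ G}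
    (hG : TFOne.IsQuotOn X M (cl T) G π) (h : ¬ (T.Nonempty ∧ T ≠ gens X)) :
    Curv2.euler k X (CohB1.tensorMod G E) = 0 := by
  classical
  obtain ⟨D, -, -, -, hD0, h5⟩ := exists_degFun' (k := k) hd hE
  by_cases hT' : T = gens X
  · subst hT'
    rw [(cl_eq_univ_iff hT).mpr rfl] at hG
    rw [← h0]
    exact CurvLib.euler_congr (HilbPolyLib.congrLeft (iso_of_quot hM hG (isQuotOn_univ hM)).choose E)
  · obtain rfl : T = ∅ := Finset.not_nonempty_iff_eq_empty.mp fun hne => h ⟨hne, hT'⟩
    have hl : ∀ η ∈ genericPoints X, len G η = if η ∈ (∅ : Set X) then 1 else 0 := fun η hη => by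
      rw [if_neg (Set.notMem_empty η)]
      exact len_eq_zero fun hs => (Set.notMem_empty η) (cl_empty (X := X) ▸ hG.2.2.2 ▸ hs)
    have := h5 G ∅ hG.2.1 hl
    rw [euler_eq_zero_of_support hG.2.1 (hG.2.2.2.trans cl_empty), hD0] at this
    simpa using this

include hd hE hM h0 in
/-- Every quotient of a semistable sheaf is nonnegative. -/
theorem quot_nonneg (hs : TFOne.IsSemistable X k (X ↘ Spec (CommRingCat.of k)) M E r) {N : X.Modules}
    (hN : Coh.IsCoh N) (p : M ⟶ N) [Epi p] : 0 ≤ Curv2.euler k X (CohB1.tensorMod N E) := by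
  obtain ⟨T, G, π, hT, hG, -, hle, -⟩ := exists_quot_of_epi (k := k) hd hE hM hN p
  refine le_trans ?_ hle
  by_cases h : T.Nonempty ∧ T ≠ gens X
  · rw [← rBeta_eq (k := k) hd hE hM (isClosed_cl T) hG]
    exact hs.2 _ _ (isSubcurve_cl hT h.1) (fun e => h.2 ((cl_eq_univ_iff hT).mp e)) G π hG
  · exact (euler_tensor_quot_top (k := k) hd hE hM h0 hT hG h).ge

include hd hE hM h0 in
/-- A proper quotient through the point is positive. -/
theorem quot_pos (hr : 0 < r) (hs : TFOne.IsQuasistableAtPt X k (X ↘ Spec (CommRingCat.of k)) M E r y)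
    {N : X.Modules} (hN : Coh.IsCoh N) (p : M ⟶ N) [Epi p] (hp : ¬ Mono p) (hy : y ∈ CohB1.support N) :
    0 < Curv2.euler k X (CohB1.tensorMod N E) := by
  obtain ⟨T, G, π, hT, hG, hmono, hle, heq⟩ := exists_quot_of_epi (k := k) hd hE hM hN p
  have h1 := quot_nonneg (k := k) hd hE hM h0 hs.1 hN p
  refine lt_of_le_of_ne h1 fun h => ?_
  have hG0 : 0 ≤ Curv2.euler k X (CohB1.tensorMod G E) :=
    haveI := hG.1
    quot_nonneg (k := k) hd hE hM h0 hs.1 hG.2.1 π
  have hTN := heq hr (le_antisymm (by linarith) hle)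
  have hyT : y ∈ cl T := hTN ▸ hy
  have hne : T.Nonempty := by
    obtain ⟨z, hz, -⟩ := Set.mem_iUnion₂.mp hyT
    exact ⟨z, hz⟩
  have hpos := hs.2 _ (isClosed_cl T) (isSubcurve_cl hT hne) (fun e => hp (hmono ((cl_eq_univ_iff hT).mp e)))
    hyT G π hG
  rw [rBeta_eq (k := k) hd hE hM (isClosed_cl T) hG] at hpos
  linarith

end TFExtLib

end
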