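import Groth.Agent.TFExtLib.Ascend
import Groth.Agent.GeomRedFieldLib.Locus
import Groth.Agent.FibDimLib.Semicont
import Groth.Agent.FibDimLib.FieldExt
import Groth.Agent.S0435
import Groth.Agent.S1543
import Groth.Agent.S1544
import Groth.Agent.TFModLib.Gen
import Mathlib.AlgebraicGeometry.Geometrically.Integral

/-!
# The geometric fibres of the family
-/

set_option autoImplicit false
set_option linter.style.haveILetI false
set_option linter.unusedSectionVars false

universe u

open CategoryTheory CategoryTheory.Limits AlgebraicGeometry TopologicalSpace Opposite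
open TFQuotLib

noncomputable section

namespace TFExtLib

variable {k : Type u} [Field k] {X : Scheme.{u}} [X.Over (Spec (CommRingCat.of k))]

/-- Every component geometrically integral, the whole geometrically reduced. -/
theorem geometricallyReduced_of_components [AlgebraicGeometry.IsReduced X]
    [IsProper (X ↘ Spec (CommRingCat.of k))]
    (hgi : ∀ (C : Set X) (hC : C ∈ irreducibleComponents (X : Type u)), GeometricallyIntegral
      (VecSt.subschι X C (isClosed_of_mem_irreducibleComponents C hC) ≫ (X ↘ Spec (CommRingCat.of k)))) :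
    GeometricallyReduced (X ↘ Spec (CommRingCat.of k)) := by
  haveI := CurvLib.isNoetherian k (X := X)
  refine Groth.Agent.S1543.result k X fun Z hZ η hη => ?_
  have hηg : η ∈ genericPoints (X : Type u) := by
    show closure {η} ∈ irreducibleComponents (X : Type u)
    rwa [hη.def]
  let c := VecSt.subschι X Z (isClosed_of_mem_irreducibleComponents Z hZ)
  have hr : Set.range ⇑c = Z := Scheme.IdealSheafData.range_subschemeι _
  haveI : GeometricallyIntegral (c ≫ (X ↘ Spec (CommRingCat.of k))) := hgi Z hZ
  haveI : Subsingleton ↥(Spec (CommRingCat.of k)) := inferInstanceAs (Subsingleton (PrimeSpectrum k))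
  haveI : IsIntegral (Spec (CommRingCat.of k)) := inferInstance
  haveI hint : IsIntegral (VecSt.subsch X Z (isClosed_of_mem_irreducibleComponents Z hZ)) :=
    GeometricallyIntegral.isIntegral_of_subsingleton (c ≫ (X ↘ Spec (CommRingCat.of k)))
  let W := VecSt.subsch X Z (isClosed_of_mem_irreducibleComponents Z hZ)
  letI : W.Over (Spec (CommRingCat.of k)) := ⟨c ≫ (X ↘ Spec (CommRingCat.of k))⟩
  haveI : GeometricallyReduced (W ↘ Spec (CommRingCat.of k)) :=
    inferInstanceAs (GeometricallyReduced (c ≫ (X ↘ Spec (CommRingCat.of k))))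
  obtain ⟨w, hw⟩ : η ∈ Set.range ⇑c := hr.symm ▸ hη.mem
  have hwg : w = genericPoint W := by
    refine (eq_of_specializes_generic (X := W) (η := w) ?_ (genericPoint_specializes w)).symm
    exact mem_genericPoints fun z hz => c.isEmbedding.injective
      (hw.trans (eq_of_specializes_generic hηg (hw ▸ hz.map c.continuous)).symm).symm
  have hfun := (Groth.Agent.S1544.result k W).mp ‹_›
  subst hw
  subst hwg
  letI : Field (X.presheaf.stalk (c (genericPoint W))) := (TFQuotLib.isField_stalk_generic hηg).toField
  letI : Algebra k (X.presheaf.stalk (c (genericPoint W))) := (Curv2.stalkMap k X _).toAlgebra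
  letI : Algebra k W.functionField := (Curv2.stalkMap k W (genericPoint W)).toAlgebra
  have hh := GeomRedFieldLib.grAt_iff (X ↘ Spec (CommRingCat.of k))
    (GeomRedFieldLib.fromSpecStalk_comp_over X (c (genericPoint W)))
  refine hh.mpr ?_
  have hW : Algebra.IsGeometricallyReduced k W.functionField := by
    have hh' := GeomRedFieldLib.grAt_iff (W ↘ Spec (CommRingCat.of k))
      (GeomRedFieldLib.fromSpecStalk_comp_over W (genericPoint W))
    exact hh'.mp (GeomRedFieldLib.grAt_of_gr _ _)
  have hcomp : (c.stalkMap (genericPoint W)).hom.comp (Curv2.stalkMap k X (c (genericPoint W))) =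
      Curv2.stalkMap k W (genericPoint W) := by
    have h1 : Spec.map (CommRingCat.ofHom ((c.stalkMap (genericPoint W)).hom.comp (Curv2.stalkMap k X (c (genericPoint W))))) =
        Spec.map (CommRingCat.ofHom (Curv2.stalkMap k W (genericPoint W))) := by
      rw [CommRingCat.ofHom_comp, Spec.map_comp, ← GeomRedFieldLib.fromSpecStalk_comp_over,
        ← GeomRedFieldLib.fromSpecStalk_comp_over]
      exact Scheme.SpecMap_stalkMap_fromSpecStalk_assoc c _
    exact congrArg CommRingCat.Hom.hom (Spec.map_injective h1)
  let φ : X.presheaf.stalk (c (genericPoint W)) →ₐ[k] W.functionField :=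
    { (c.stalkMap (genericPoint W)).hom with commutes' := fun a => congr($hcomp a) }
  haveI := hW
  haveI : Nontrivial W.functionField := inferInstance
  exact Algebra.IsGeometricallyReduced.of_injective φ (RingHom.injective φ.toRingHom)

variable {R : Type u} [CommRing R] [IsDomain R] [IsDiscreteValuationRing R]
  {X : Scheme.{u}} (f : X ⟶ Spec (CommRingCat.of R)) [Flat f] [IsProper f] {Xs : Scheme.{u}}
  [Xs.Over (Spec (CommRingCat.of (IsLocalRing.ResidueField R)))] (i : Xs ⟶ X)

theorem exists_fibre_map :
    ∃ w : Spec ((Spec (CommRingCat.of R)).residueField (IsLocalRing.closedPoint R)) ⟶ Spec (CommRingCat.of (IsLocalRing.ResidueField R)),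
      w ≫ Spec.map (CommRingCat.ofHom (IsLocalRing.residue R)) =
        (Spec (CommRingCat.of R)).fromSpecResidueField (IsLocalRing.closedPoint R) := by
  let S := Spec (CommRingCat.of R)
  let s : S := IsLocalRing.closedPoint R
  obtain ⟨ψ, hψ⟩ := Spec.map_surjective (S.fromSpecResidueField s)
  have hker : ∀ a ∈ IsLocalRing.maximalIdeal R, ψ.hom a = 0 := fun a ha => by
    have h1 : (Spec.map ψ) (IsLocalRing.closedPoint _) = s := by
      rw [hψ]
      exact Scheme.fromSpecResidueField_apply s _
    have h2 : (IsLocalRing.maximalIdeal R) = Ideal.comap ψ.hom (IsLocalRing.maximalIdeal _) :=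
      (congrArg PrimeSpectrum.asIdeal h1).symm
    rw [h2, Ideal.mem_comap, IsLocalRing.isField_iff_maximalIdeal_eq.mp (Field.toIsField _), Ideal.mem_bot] at ha
    exact ha
  refine ⟨Spec.map (CommRingCat.ofHom (Ideal.Quotient.lift (IsLocalRing.maximalIdeal R) ψ.hom hker)), ?_⟩
  rw [← hψ, ← Spec.map_comp]
  rfl

variable (hsq : IsPullback i (Xs ↘ Spec (CommRingCat.of (IsLocalRing.ResidueField R))) f (Spec.map (CommRingCat.ofHom (IsLocalRing.residue R))))

include hsq in
theorem geometricallyReduced_family [AlgebraicGeometry.IsReduced Xs]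
    (hgi : ∀ (C : Set Xs) (hC : C ∈ irreducibleComponents (Xs : Type u)), GeometricallyIntegral
      (VecSt.subschι Xs C (isClosed_of_mem_irreducibleComponents C hC) ≫ (Xs ↘ Spec (CommRingCat.of (IsLocalRing.ResidueField R))))) :
    GeometricallyReduced f := by
  haveI : IsProper (Xs ↘ Spec (CommRingCat.of (IsLocalRing.ResidueField R))) := MorphismProperty.of_isPullback hsq ‹_›
  haveI := geometricallyReduced_of_components (k := (IsLocalRing.ResidueField R)) hgi
  haveI : LocallyOfFinitePresentation f := LocallyOfFinitePresentation.iff_locallyOfFiniteType.2 inferInstance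
  let S := Spec (CommRingCat.of R)
  have hopen := Groth.Agent.S0435.result f
  obtain ⟨w, hw⟩ := exists_fibre_map (R := R)
  have hs : GeometricallyReduced (f.fiberToSpecResidueField (IsLocalRing.closedPoint R : S)) := by
    have H : IsPullback (f.fiberι (IsLocalRing.closedPoint R : S)) (f.fiberToSpecResidueField _) f
        (S.fromSpecResidueField _) := IsPullback.of_hasPullback _ _
    let q := hsq.lift (f.fiberι (IsLocalRing.closedPoint R : S)) (f.fiberToSpecResidueField _ ≫ w)
      (by rw [Category.assoc, hw]; exact H.w)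
    have Hq : IsPullback q (f.fiberToSpecResidueField (IsLocalRing.closedPoint R : S))
        (Xs ↘ Spec (CommRingCat.of (IsLocalRing.ResidueField R))) w :=
      IsPullback.of_right (by rw [hsq.lift_fst, hw]; exact H) (hsq.lift_snd _ _ _) hsq
    exact MorphismProperty.of_isPullback Hq inferInstance
  rw [GeometricallyReduced.eq_geometrically, geometrically_iff_forall_fiberToSpecResidueField]
  intro y
  have h1 := (IsLocalRing.specializes_closedPoint y).mem_open hopen hs
  change GeometricallyReduced (f.fiberToSpecResidueField y) at h1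
  rwa [GeometricallyReduced.eq_geometrically] at h1

include hsq in
theorem dim_fiber_le (hd : topologicalKrullDim Xs ≤ 1) (y : Spec (CommRingCat.of R)) :
    topologicalKrullDim (f.fiber y) ≤ 1 := by
  haveI : IsProper (Xs ↘ Spec (CommRingCat.of (IsLocalRing.ResidueField R))) := MorphismProperty.of_isPullback hsq ‹_›
  refine (IsLocalRing.specializes_closedPoint y).mem_open
    (FibDimLib.isOpen_fiber_dim_le f f.isClosedMap 1) ?_
  let pt : Spec (CommRingCat.of (IsLocalRing.ResidueField R)) := IsLocalRing.closedPoint (IsLocalRing.ResidueField R)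
  have h1 := FibDimLib.topologicalKrullDim_fiber_baseChange hsq pt
  have hpt : (Spec.map (CommRingCat.ofHom (IsLocalRing.residue R))) pt =
      (IsLocalRing.closedPoint R : Spec (CommRingCat.of R)) := by
    haveI : IsLocalHom (CommRingCat.ofHom (IsLocalRing.residue R)).hom :=
      inferInstanceAs (IsLocalHom (IsLocalRing.residue R))
    exact Spec_closedPoint (f := CommRingCat.ofHom (IsLocalRing.residue R))
  rw [hpt] at h1
  show topologicalKrullDim _ ≤ _
  rw [← h1]
  exact le_trans ((Xs ↘ Spec (CommRingCat.of (IsLocalRing.ResidueField R))).fiberι pt).isEmbedding.isInducing.topologicalKrullDim_le hd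

/-- A geometric fibre is a proper reduced curve. -/
theorem fibre_props (hsq : IsPullback i (Xs ↘ Spec (CommRingCat.of (IsLocalRing.ResidueField R))) f
      (Spec.map (CommRingCat.ofHom (IsLocalRing.residue R))))
    [GeometricallyReduced f] (hd : topologicalKrullDim Xs ≤ 1)
    {Ω : Type u} [Field Ω] {t : Spec (CommRingCat.of Ω) ⟶ Spec (CommRingCat.of R)}
    {Y : Scheme.{u}} {iY : Y ⟶ X} {qY : Y ⟶ Spec (CommRingCat.of Ω)} (H : IsPullback iY qY f t) :
    IsProper qY ∧ AlgebraicGeometry.IsNoetherian Y ∧ AlgebraicGeometry.IsReduced Y ∧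
      topologicalKrullDim Y ≤ 1 := by
  have hP : IsProper qY := MorphismProperty.of_isPullback H ‹_›
  letI : Y.Over (Spec (CommRingCat.of Ω)) := ⟨qY⟩
  haveI : IsProper (Y ↘ Spec (CommRingCat.of Ω)) := hP
  refine ⟨hP, CurvLib.isNoetherian Ω (X := Y), GeometricallyReduced.geometrically_isReduced _ _ _ H, ?_⟩
  let pt : Spec (CommRingCat.of Ω) := IsLocalRing.closedPoint Ω
  have h1 := FibDimLib.topologicalKrullDim_fiber_baseChange H pt
  refine le_trans ?_ ((h1.le).trans (dim_fiber_le f i hsq hd (t pt)))
  haveI : Subsingleton ↥(Spec (CommRingCat.of Ω)) := inferInstanceAs (Subsingleton (PrimeSpectrum Ω))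
  have hsurj : Function.Surjective ⇑(qY.fiberι pt) := fun z => by
    have : z ∈ Set.range ⇑(qY.fiberι pt) := by
      rw [qY.range_fiberι]
      exact Subsingleton.elim (qY z) pt
    exact this
  exact le_of_eq (IsHomeomorph.topologicalKrullDim_eq _
    ((qY.fiberι pt).isEmbedding.toHomeomorphOfSurjective hsurj).isHomeomorph).symm

section ClosedFibre

variable {κ₀ : Type u} [Field κ₀] {Z : Scheme.{u}} [Z.Over (Spec (CommRingCat.of κ₀))]
  {Ω : Type u} [Field Ω] {Y : Scheme.{u}} (q : Y ⟶ Z) {qY : Y ⟶ Spec (CommRingCat.of Ω)}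
  {ω : Spec (CommRingCat.of Ω) ⟶ Spec (CommRingCat.of κ₀)}
  (H : IsPullback q qY (Z ↘ Spec (CommRingCat.of κ₀)) ω)
  (hgi : ∀ (C : Set Z) (hC : C ∈ irreducibleComponents (Z : Type u)), GeometricallyIntegral
    (VecSt.subschι Z C (isClosed_of_mem_irreducibleComponents C hC) ≫ (Z ↘ Spec (CommRingCat.of κ₀))))

include H hgi in
theorem isIrreducible_preimage_component {C : Set Z} (hC : C ∈ irreducibleComponents (Z : Type u)) :
    IsIrreducible (q ⁻¹' C) := by
  let c := VecSt.subschι Z C (isClosed_of_mem_irreducibleComponents C hC)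
  have hr : Set.range ⇑c = C := Scheme.IdealSheafData.range_subschemeι _
  haveI := hgi C hC
  have Hc := (IsPullback.of_hasPullback q c).flip.paste_vert H
  haveI : IsIntegral (pullback q c) := GeometricallyIntegral.geometrically_isIntegral _ _ _ Hc
  rw [← hr, ← Scheme.Pullback.range_fst]
  rw [← Set.image_univ]
  exact (IrreducibleSpace.isIrreducible_univ _).image _ (pullback.fst q c).continuous.continuousOn

include H hgi in
theorem injective_generic [Flat q] {y y' : Y} (hy : y ∈ genericPoints Y) (hy' : y' ∈ genericPoints Y)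
    (h : q y = q y') : y = y' := by
  have hC : closure {q y} ∈ irreducibleComponents (Z : Type u) := mem_generic_map q hy
  have hirr := isIrreducible_preimage_component q H hgi hC
  have hcl : IsClosed (q ⁻¹' closure {q y}) := isClosed_closure.preimage q.continuous
  have key : ∀ z ∈ genericPoints Y, q z = q y → q ⁻¹' closure {q y} = closure {z} := fun z hz hzy => by
    have h1 : closure {z} ⊆ q ⁻¹' closure {q y} :=
      closure_minimal (Set.singleton_subset_iff.mpr (subset_closure hzy)) hcl
    exact (hz.2 hirr h1).antisymm h1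
  have h2 := (key y hy rfl).symm.trans (key y' hy' h.symm)
  exact eq_of_specializes_generic hy' (specializes_iff_mem_closure.mpr (h2 ▸ subset_closure rfl))

end ClosedFibre

end TFExtLib

end
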