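import Groth.Agent.TFExtLib.Special
import Groth.Agent.TFExtLib.Curve
import Groth.Agent.TFExtLib.Geom
import Groth.Agent.CohCmpLib.EulerFibre
import Groth.Agent.TFQuotLib.Scalar
import Groth.Agent.SeesawLib.Ranks
import Groth.Agent.MiscFlat6.QuasiFlat

/-!
# Endless towers contradict the hypothesis on the generic fibre
-/

set_option autoImplicit false
set_option linter.style.haveILetI false
set_option linter.unusedSectionVars false

universe u

open CategoryTheory CategoryTheory.Limits AlgebraicGeometry TopologicalSpace Opposite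
open DevissLib IntMultLib TFQuotLib TFModLib

noncomputable section

namespace TFExtLib

variable {R : Type u} [CommRing R] [IsDomain R] [IsDiscreteValuationRing R] (C : Completed R)

/-- An algebraically closed field over the completion. -/
abbrev ΩC : Type u := AlgebraicClosure (FractionRing C.R')

/-- The geometric generic point. -/
abbrev tΩ : Spec (CommRingCat.of (ΩC C)) ⟶ Spec (CommRingCat.of C.R') :=
  Spec.map (CommRingCat.ofHom (algebraMap C.R' (ΩC C)))

theorem flat_tΩ : Flat (tΩ C) := by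
  haveI : Module.Flat C.R' (FractionRing C.R') := IsLocalization.flat _ (nonZeroDivisors C.R')
  haveI : Module.Flat C.R' (ΩC C) := Module.Flat.trans C.R' (FractionRing C.R') _
  exact (HasRingHomProperty.Spec_iff (P := @Flat)).mpr (RingHom.flat_algebraMap_iff.mpr ‹_›)

theorem tΩ_asIdeal (pt : Spec (CommRingCat.of (ΩC C))) : (tΩ C pt).asIdeal = ⊥ := by
  show Ideal.comap (algebraMap C.R' (ΩC C)) pt.asIdeal = ⊥
  rw [Subsingleton.elim (α := PrimeSpectrum (ΩC C)) pt ⊥]
  refine (RingHom.injective_iff_ker_eq_bot _).mp ?_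
  rw [IsScalarTower.algebraMap_eq C.R' (FractionRing C.R') (ΩC C)]
  exact (algebraMap (FractionRing C.R') (ΩC C)).injective.comp (IsFractionRing.injective C.R' _)

theorem tΩ_ne (pt : Spec (CommRingCat.of (ΩC C))) :
    (tΩ C ≫ Spec.map (CommRingCat.ofHom C.φ)) pt ≠ IsLocalRing.closedPoint R := fun h => by
  have h' := congrArg PrimeSpectrum.asIdeal h
  refine IsDiscreteValuationRing.not_a_field R (h'.symm.trans ?_)
  show Ideal.comap C.φ (tΩ C pt).asIdeal = ⊥
  rw [tΩ_asIdeal, ← RingHom.ker_eq_comap_bot]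
  exact (RingHom.injective_iff_ker_eq_bot _).mp C.inj

variable {X : Scheme.{u}} (f : X ⟶ Spec (CommRingCat.of R)) [IsProper f] {Xs : Scheme.{u}} (i : Xs ⟶ X)
  [Xs.Over (Spec (CommRingCat.of (IsLocalRing.ResidueField R)))]
  [IsProper (Xs ↘ Spec (CommRingCat.of (IsLocalRing.ResidueField R)))]
  [AlgebraicGeometry.IsNoetherian Xs] [IsReduced Xs]
  (hsq : IsPullback i (Xs ↘ Spec (CommRingCat.of (IsLocalRing.ResidueField R))) f
    (Spec.map (CommRingCat.ofHom (IsLocalRing.residue R))))

/-- The geometric generic fibre. -/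
abbrev YΩ : Scheme.{u} := pullback (f' C f) (tΩ C)

/-- Its map to the completion. -/
abbrev iY : YΩ C f ⟶ X' C f := pullback.fst (f' C f) (tΩ C)

/-- Its structure map. -/
abbrev qY : YΩ C f ⟶ Spec (CommRingCat.of (ΩC C)) := pullback.snd (f' C f) (tΩ C)

theorem isPullback_YΩ : IsPullback (iY C f ≫ g C f) (qY C f) f (tΩ C ≫ Spec.map (CommRingCat.ofHom C.φ)) :=
  (IsPullback.of_hasPullback (f' C f) (tΩ C)).paste_horiz (IsPullback.of_hasPullback f _)

theorem flat_iY : Flat (iY C f) :=
  haveI := flat_tΩ C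
  inferInstance

theorem isLocallyNoetherian_X' : IsLocallyNoetherian (X' C f) :=
  LocallyOfFiniteType.isLocallyNoetherian (f' C f)

include hsq in
theorem nonempty_fibre_support {M : (X' C f).Modules} (hM : Coh.IsCoh M) (hMf : FlatMod.IsFlatOver (f' C f) M)
    {x : X' C f} (hx : x ∈ CohB1.support M) :
    (CohB1.support ((Scheme.Modules.pullback (iY C f)).obj M)).Nonempty := by
  obtain ⟨g', hsq'⟩ := exists_residue_square C f i hsq
  obtain ⟨η, hη, hηi⟩ := exists_mem_support_generic (f' C f) (i' C f i hsq) hsq' hM hMf hx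
  obtain ⟨pt⟩ : Nonempty (Spec (CommRingCat.of (ΩC C))) := ⟨IsLocalRing.closedPoint (ΩC C)⟩
  have hbot : (f' C f η).asIdeal = ⊥ := by
    by_contra hne
    haveI := (f' C f η).isPrime
    refine hηi ?_
    obtain ⟨z, hz, -⟩ := Scheme.exists_preimage_of_isPullback hsq' η
      (IsLocalRing.closedPoint (IsLocalRing.ResidueField C.R')) (by
        haveI : IsLocalHom (CommRingCat.ofHom (IsLocalRing.residue C.R')).hom :=
          inferInstanceAs (IsLocalHom (IsLocalRing.residue C.R'))
        refine Eq.trans ?_ (Spec_closedPoint (f := CommRingCat.ofHom (IsLocalRing.residue C.R'))).symm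
        exact PrimeSpectrum.ext (IsLocalRing.eq_maximalIdeal (IsPrime.to_maximal_ideal hne)))
    exact ⟨z, hz⟩
  obtain ⟨y, hy, -⟩ := Scheme.exists_preimage_of_isPullback (IsPullback.of_hasPullback (f' C f) (tΩ C)) η pt
    (PrimeSpectrum.ext (hbot.trans (tΩ_asIdeal C pt).symm))
  haveI := hM.1
  refine ⟨y, ?_⟩
  rw [Groth.Agent.S4357.result (iY C f) M hM.2, Set.mem_preimage]
  exact hy ▸ hη

include hsq in
theorem euler_const {M : (X' C f).Modules} (hM : Coh.IsCoh M) (hMf : FlatMod.IsFlatOver (f' C f) M) :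
    @Curv2.euler (ΩC C) _ (YΩ C f) ⟨qY C f⟩ ((Scheme.Modules.pullback (iY C f)).obj M) =
      Curv2.euler (IsLocalRing.ResidueField R) Xs ((Scheme.Modules.pullback (i' C f i hsq)).obj M) := by
  haveI := isLocallyNoetherian_X' C f
  haveI : LocallyOfFinitePresentation (f' C f) :=
    LocallyOfFinitePresentation.iff_locallyOfFiniteType.2 inferInstance
  have hfp := QCohLib.isFP_of_isCoh M hM
  rw [CohCmpLib.euler_bc hfp hMf (IsPullback.of_hasPullback (f' C f) (tΩ C)) (IsLocalRing.closedPoint (ΩC C))]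
  refine Eq.trans ?_ (CohCmpLib.euler_bc hfp hMf (isPullback_i' C f i hsq) (IsLocalRing.closedPoint (IsLocalRing.ResidueField R))).symm
  exact (CohCmpLib.isLocallyConstant_eulerChar hfp hMf).apply_eq_of_preconnectedSpace _ _

variable {E : X.Modules} {r : ℕ} (hE : FlatMod.IsFinLocFreeOfRank r E)

include hsq hE in
theorem euler_tensor_fibre {F : (X' C f).Modules} (hF : Coh.IsCoh F) (hFf : FlatMod.IsFlatOver (f' C f) F)
    {G : Xs.Modules} (e : (Scheme.Modules.pullback (i' C f i hsq)).obj F ≅ G) :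
    @Curv2.euler (ΩC C) _ (YΩ C f) ⟨qY C f⟩ (CohB1.tensorMod ((Scheme.Modules.pullback (iY C f)).obj F)
        ((Scheme.Modules.pullback (iY C f ≫ g C f)).obj E)) =
      Curv2.euler (IsLocalRing.ResidueField R) Xs (CohB1.tensorMod G ((Scheme.Modules.pullback i).obj E)) := by
  haveI := isLocallyNoetherian_X' C f
  letI : (YΩ C f).Over (Spec (CommRingCat.of (ΩC C))) := ⟨qY C f⟩
  let E' := (Scheme.Modules.pullback (g C f)).obj E
  have hE' : FlatMod.IsFinLocFreeOfRank r E' := SeesawLib.isFinLocFreeOfRank_pullback (g C f) hE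
  have e1 : (Scheme.Modules.pullback (iY C f)).obj (CohB1.tensorMod F E') ≅
      CohB1.tensorMod ((Scheme.Modules.pullback (iY C f)).obj F)
        ((Scheme.Modules.pullback (iY C f ≫ g C f)).obj E) :=
    @asIso _ _ _ _ (KFlatLib.pullθ (iY C f) F E') (KFlatLib.isIso_pullθ _ _ _) ≪≫
      HilbPolyLib.congrRight _ ((Scheme.Modules.pullbackComp (iY C f) (g C f)).app E)
  have e2 : (Scheme.Modules.pullback (i' C f i hsq)).obj (CohB1.tensorMod F E') ≅
      CohB1.tensorMod G ((Scheme.Modules.pullback i).obj E) :=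
    @asIso _ _ _ _ (KFlatLib.pullθ (i' C f i hsq) F E') (KFlatLib.isIso_pullθ _ _ _) ≪≫
      HilbPolyLib.congrLeft e _ ≪≫
      HilbPolyLib.congrRight _ ((Scheme.Modules.pullbackComp (i' C f i hsq) (g C f)).app E ≪≫
        (Scheme.Modules.pullbackCongr (i'_g C f i hsq)).app E)
  rw [← CurvLib.euler_congr e1, ← CurvLib.euler_congr e2]
  exact euler_const C f i hsq (IntMultLib.isCoh_tensor_locFree hE' hF)
    (isFlatOver_tensor_locFree _ hFf hE')

include hsq hE in
theorem euler_tensor_start {I : X.Modules} (hI : Adm f i I) :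
    @Curv2.euler (ΩC C) _ (YΩ C f) ⟨qY C f⟩ (CohB1.tensorMod ((Scheme.Modules.pullback (iY C f ≫ g C f)).obj I)
        ((Scheme.Modules.pullback (iY C f ≫ g C f)).obj E)) =
      Curv2.euler (IsLocalRing.ResidueField R) Xs (CohB1.tensorMod ((Scheme.Modules.pullback i).obj I) ((Scheme.Modules.pullback i).obj E)) := by
  haveI := hI.coh.1
  letI : (YΩ C f).Over (Spec (CommRingCat.of (ΩC C))) := ⟨qY C f⟩
  haveI : IsLocallyNoetherian X := LocallyOfFiniteType.isLocallyNoetherian f
  haveI := isLocallyNoetherian_X' C f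
  refine Eq.trans (CurvLib.euler_congr (HilbPolyLib.congrLeft
    ((Scheme.Modules.pullbackComp (iY C f) (g C f)).app I).symm _)) ?_
  exact euler_tensor_fibre C f i hsq hE (ConsLib.isCoh_pullback (g C f) hI.coh)
    (MiscFlat6.QFlat.isFlatOver_pullback f I hI.flat _)
    ((Scheme.Modules.pullbackComp (i' C f i hsq) (g C f)).app I ≪≫
      (Scheme.Modules.pullbackCongr (i'_g C f i hsq)).app I)

variable [Flat f] [GeometricallyReduced f] [DecidableEq Xs] (hd : topologicalKrullDim Xs ≤ 1)
  {In : ℕ → X.Modules} {S : Finset Xs} (hS : S ⊆ gens Xs) (hA : ∀ n, Adm f i (In n))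
  (hstep : ∀ n, Step i S (In n) (In (n + 1)))
  (hdec : ∀ n, chi (IsLocalRing.ResidueField R) ((Scheme.Modules.pullback i).obj (In n)) S +
    chi (IsLocalRing.ResidueField R) ((Scheme.Modules.pullback i).obj (In n)) (gens Xs \ S) =
    chi (IsLocalRing.ResidueField R) ((Scheme.Modules.pullback i).obj (In n)) (gens Xs))

include hsq hd hE hS hA hstep hdec in
/-- The semistable case. -/
theorem no_semistable
    (h0 : Curv2.euler (IsLocalRing.ResidueField R) Xs (CohB1.tensorMod ((Scheme.Modules.pullback i).obj (In 0))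
      ((Scheme.Modules.pullback i).obj E)) = 0)
    (hneg : ∀ (G : Xs.Modules) (π : (Scheme.Modules.pullback i).obj (In 0) ⟶ G),
      TFOne.IsQuotOn Xs ((Scheme.Modules.pullback i).obj (In 0)) (cl S) G π →
        Curv2.euler (IsLocalRing.ResidueField R) Xs (CohB1.tensorMod G ((Scheme.Modules.pullback i).obj E)) < 0)
    (hY : TFOne.IsSemistable (YΩ C f) (ΩC C) (qY C f) ((Scheme.Modules.pullback (iY C f ≫ g C f)).obj (In 0))
      ((Scheme.Modules.pullback (iY C f ≫ g C f)).obj E) r) : False := by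
  obtain ⟨F, p, G, π, e, hFc, hp, hFf, hG, -⟩ := exists_limit f i hsq hd C hS hA hstep hdec
  obtain ⟨hP, hN, hR, hdY⟩ := fibre_props f i hsq hd (isPullback_YΩ C f)
  haveI := hN
  haveI := hR
  letI : (YΩ C f).Over (Spec (CommRingCat.of (ΩC C))) := ⟨qY C f⟩
  haveI : IsProper ((YΩ C f) ↘ Spec (CommRingCat.of (ΩC C))) := hP
  haveI := hp
  haveI := epi_pullback (iY C f) p
  haveI := hFc.1
  let pY := ((Scheme.Modules.pullbackComp (iY C f) (g C f)).app (In 0)).inv ≫
    (Scheme.Modules.pullback (iY C f)).map p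
  have h1 := quot_nonneg (k := ΩC C) hdY (SeesawLib.isFinLocFreeOfRank_pullback (iY C f ≫ g C f) hE) hY.1
    ((euler_tensor_start C f i hsq hE (hA 0)).trans h0) hY (ConsLib.isCoh_pullback (iY C f) hFc) pY
  rw [euler_tensor_fibre C f i hsq hE hFc hFf e] at h1
  exact absurd h1 (hneg G π hG).not_ge

include hsq hd hE hS hA hstep hdec in
/-- The quasistable case. -/
theorem no_quasistable (hr : 0 < r) (hne : S ≠ gens Xs) {z₀ : Xs}
    (hz₀ : ∀ η ∈ gens Xs, η ⤳ z₀ → η ∈ S)
    (h0 : Curv2.euler (IsLocalRing.ResidueField R) Xs (CohB1.tensorMod ((Scheme.Modules.pullback i).obj (In 0))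
      ((Scheme.Modules.pullback i).obj E)) = 0)
    (hzero : ∀ (G : Xs.Modules) (π : (Scheme.Modules.pullback i).obj (In 0) ⟶ G),
      TFOne.IsQuotOn Xs ((Scheme.Modules.pullback i).obj (In 0)) (cl S) G π →
        Curv2.euler (IsLocalRing.ResidueField R) Xs (CohB1.tensorMod G ((Scheme.Modules.pullback i).obj E)) = 0)
    (y : YΩ C f) (hy : iY C f y ⤳ i' C f i hsq z₀)
    (hY : TFOne.IsQuasistableAtPt (YΩ C f) (ΩC C) (qY C f)
      ((Scheme.Modules.pullback (iY C f ≫ g C f)).obj (In 0))
      ((Scheme.Modules.pullback (iY C f ≫ g C f)).obj E) r y) : False := by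
  classical
  obtain ⟨F, p, G, π, e, hFc, hp, hFf, hG, hcomm⟩ := exists_limit f i hsq hd C hS hA hstep hdec
  obtain ⟨hP, hN, hR, hdY⟩ := fibre_props f i hsq hd (isPullback_YΩ C f)
  haveI := hN
  haveI := hR
  letI : (YΩ C f).Over (Spec (CommRingCat.of (ΩC C))) := ⟨qY C f⟩
  haveI : IsProper ((YΩ C f) ↘ Spec (CommRingCat.of (ΩC C))) := hP
  obtain ⟨g', hsq'⟩ := exists_residue_square C f i hsq
  obtain ⟨ϖ', hϖ'⟩ := IsDiscreteValuationRing.exists_irreducible C.R'
  haveI : IsLocallyNoetherian X := LocallyOfFiniteType.isLocallyNoetherian f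
  haveI := isLocallyNoetherian_X' C f
  haveI := flat_iY C f
  haveI := hp
  haveI := hG.1
  haveI := hFc.1
  haveI := (hA 0).coh.1
  have hM' : Coh.IsCoh ((Scheme.Modules.pullback (g C f)).obj (In 0)) := ConsLib.isCoh_pullback _ (hA 0).coh
  haveI := hM'.1
  haveI := epi_pullback (iY C f) p
  have hK : Coh.IsCoh (kernel p) := QCohLib.isCoh_kernel p hM' hFc.1
  haveI := hK.1
  have hM := (hA 0).tf1
  let pY := ((Scheme.Modules.pullbackComp (iY C f) (g C f)).app (In 0)).inv ≫
    (Scheme.Modules.pullback (iY C f)).map p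
  -- the kernel is nonzero
  have hnm : ¬ Mono pY := fun hm => by
    have hne' : (CohB1.support (kernel p)).Nonempty := by
      by_contra hh
      haveI : Mono p := Preadditive.mono_of_isZero_kernel p
        (DevissLib.isZero_of_support_empty (Set.not_nonempty_iff_eq_empty.mp hh))
      haveI := isIso_of_mono_of_epi p
      haveI : IsIso ((αI f i hsq C (In 0)).hom ≫ π) := hcomm ▸ inferInstance
      haveI : IsIso π := IsIso.of_isIso_comp_left (αI f i hsq C (In 0)).hom π
      obtain ⟨η, hη, hηS⟩ : ∃ η ∈ gens Xs, η ∉ S := by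
        by_contra hall
        push Not at hall
        exact hne (Finset.Subset.antisymm hS hall)
      have h1 := mem_support_tf1 hM (mem_gens.mp hη)
      rw [DevissLib.support_iso (asIso π), hG.2.2.2, mem_cl hS (mem_gens.mp hη)] at h1
      exact hηS h1
    have hKf : FlatMod.IsFlatOver (f' C f) (kernel p) := isFlatOver_of_injective (f' C f) hϖ' fun x v w hvw =>
      stalk_inj (kernel.ι p) x (smul_rho_injective (f' C f)
        (MiscFlat6.QFlat.isFlatOver_pullback f (In 0) (hA 0).flat _) hϖ'.ne_zero x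
        ((map_smul _ _ _).symm.trans ((congrArg ((St x).map (kernel.ι p)).hom hvw).trans (map_smul _ _ _))))
    obtain ⟨w, hw⟩ := nonempty_fibre_support C f i hsq hK hKf hne'.some_mem
    obtain ⟨v, hv⟩ := (mem_support_iff_nonzero _ w).mp hw
    haveI := mono_pullback (iY C f) (kernel.ι p)
    refine hv (stalk_inj ((Scheme.Modules.pullback (iY C f)).map (kernel.ι p)) w ?_)
    rw [map_zero]
    haveI : Mono ((Scheme.Modules.pullback (iY C f)).map p) :=
      mono_comp' (inferInstance : Mono ((Scheme.Modules.pullbackComp (iY C f) (g C f)).app (In 0)).hom) hm |>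
        fun h => by simpa [pY] using h
    refine stalk_inj ((Scheme.Modules.pullback (iY C f)).map p) w ?_
    rw [map_zero]
    refine stalk_comp_zero _ _ ?_ w v
    haveI : (Scheme.Modules.pullback (iY C f)).Additive :=
      (Scheme.Modules.pullbackPushforwardAdjunction (iY C f)).left_adjoint_additive
    rw [← Functor.map_comp, kernel.condition, Functor.map_zero]
  -- nothing is lost along the section
  have hπ : ∀ m, ((St z₀).map π).hom m = 0 → m = 0 := fun m hm => by
    obtain ⟨w, rfl⟩ := exists_of_kernel π z₀ hm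
    by_contra hw
    have hw0 : w ≠ 0 := fun h => hw (by rw [h, map_zero])
    let V : Xs.Opens := ⟨(cl (gens Xs \ S))ᶜ, (isClosed_cl _).isOpen_compl⟩
    have hzV : z₀ ∈ V := fun hz => by
      obtain ⟨η, hη, hηz⟩ := Set.mem_iUnion₂.mp hz
      exact (Finset.mem_sdiff.mp hη).2 (hz₀ η (Finset.mem_sdiff.mp hη).1 (specializes_iff_mem_closure.mpr hηz))
    haveI := hM.1.1
    obtain ⟨η, hηV, hη⟩ := exists_asso_mem (QCohLib.isCoh_kernel π hM.1 hG.2.1.1)
      ((mem_support_iff_nonzero _ _).mpr ⟨w, hw0⟩) V hzV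
    have hηg := asso_generic hM.2.1 (kernel.ι π) hη
    have hηS : η ∈ S := by
      by_contra hn
      exact hηV (Set.mem_biUnion (Finset.mem_sdiff.mpr ⟨mem_gens.mpr hηg, hn⟩) (subset_closure rfl))
    obtain ⟨a, ha, -⟩ := hη
    exact ha (stalk_inj (kernel.ι π) η (injective_quot hM hG hηg ((mem_cl hS hηg).mpr hηS)
      ((stalk_comp_zero _ _ (kernel.condition π) η a).trans
        ((congrArg ((St η).map π).hom (map_zero ((St η).map (kernel.ι π)).hom)).trans (map_zero _)).symm)))
  have hinj : ∀ m, ((St z₀).map ((Scheme.Modules.pullback (i' C f i hsq)).map p)).hom m = 0 → m = 0 :=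
    fun m hm => by
      have h1 := congrArg ((St z₀).map e.hom).hom hm
      rw [← TFModLib.stalk_comp, hcomm, TFModLib.stalk_comp, map_zero] at h1
      exact stalk_inj (αI f i hsq C (In 0)).hom z₀ ((hπ _ h1).trans (map_zero _).symm)
  have hKz : ∀ v, v = (0 : (St (i' C f i hsq z₀)).obj (kernel p)) := fun v =>
    stalk_kernel_eq_zero (f' C f) (i' C f i hsq) hsq' hM' hFc.1 hFf p hϖ' z₀ hinj v
  have hKy : iY C f y ∉ CohB1.support (kernel p) := fun hh => by
    obtain ⟨v, hv⟩ := (mem_support_iff_nonzero _ _).mp (hy.mem_closed (QCohLib.isClosed_support _ hK.2) hh)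
    exact hv (hKz v)
  have hyF : y ∈ CohB1.support ((Scheme.Modules.pullback (iY C f)).obj F) := by
    rw [Groth.Agent.S4357.result (iY C f) F hFc.2, Set.mem_preimage]
    have hyM : y ∈ CohB1.support ((Scheme.Modules.pullback (iY C f)).obj ((Scheme.Modules.pullback (g C f)).obj (In 0))) := by
      exact (DevissLib.support_iso (show (Scheme.Modules.pullback (iY C f)).obj ((Scheme.Modules.pullback (g C f)).obj (In 0)) ≅
        (Scheme.Modules.pullback (iY C f ≫ g C f)).obj (In 0) from
          (Scheme.Modules.pullbackComp (iY C f) (g C f)).app (In 0))).ge ((isQuotOn_univ hY.1.1).2.2.2.ge trivial)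
    rw [Groth.Agent.S4357.result (iY C f) _ hM'.2, Set.mem_preimage] at hyM
    obtain ⟨v, hv⟩ := (mem_support_iff_nonzero _ _).mp hyM
    refine (mem_support_iff_nonzero _ _).mpr ⟨((St (iY C f y)).map p).hom v, fun hh => hv ?_⟩
    obtain ⟨w, rfl⟩ := exists_of_kernel p _ hh
    haveI : Subsingleton ((St (iY C f y)).obj (kernel p)) := not_not.mp hKy
    rw [Subsingleton.elim w 0, map_zero]
  have h1 := quot_pos (k := ΩC C) hdY (SeesawLib.isFinLocFreeOfRank_pullback (iY C f ≫ g C f) hE) hY.1.1 y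
    ((euler_tensor_start C f i hsq hE (hA 0)).trans h0) hr hY (ConsLib.isCoh_pullback (iY C f) hFc) pY hnm hyF
  rw [euler_tensor_fibre C f i hsq hE hFc hFf e, hzero G π hG] at h1
  exact lt_irrefl _ h1

include hsq hd hS hA hstep hdec in
/-- The simple case. -/
theorem no_simple (hSne : S.Nonempty) (hne : S ≠ gens Xs) {In' : ℕ → X.Modules} (he : In 0 = In' 0)
    (hA' : ∀ n, Adm f i (In' n)) (hstep' : ∀ n, Step i (gens Xs \ S) (In' n) (In' (n + 1)))
    (hdec' : ∀ n, chi (IsLocalRing.ResidueField R) ((Scheme.Modules.pullback i).obj (In' n)) S +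
      chi (IsLocalRing.ResidueField R) ((Scheme.Modules.pullback i).obj (In' n)) (gens Xs \ S) =
      chi (IsLocalRing.ResidueField R) ((Scheme.Modules.pullback i).obj (In' n)) (gens Xs))
    (hY : TFOne.IsSimple (YΩ C f) (ΩC C) (qY C f) ((Scheme.Modules.pullback (iY C f ≫ g C f)).obj (In 0))) :
    False := by
  classical
  obtain ⟨F, p, G, π, e, hFc, hp, hFf, hG, hcomm⟩ := exists_limit f i hsq hd C hS hA hstep hdec
  obtain ⟨F', p', G', π', e', hFc', hp', hFf', hG', hcomm'⟩ := exists_limit f i hsq hd C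
    (Finset.sdiff_subset (t := S)) hA' hstep' (fun n => by
      rw [Finset.sdiff_sdiff_eq_self hS, add_comm]
      exact hdec' n)
  revert p' π'
  rw [← he]
  intro p' π' hp' hG' hcomm'
  obtain ⟨g', hsq'⟩ := exists_residue_square C f i hsq
  obtain ⟨ϖ', hϖ'⟩ := IsDiscreteValuationRing.exists_irreducible C.R'
  haveI : IsLocallyNoetherian X := LocallyOfFiniteType.isLocallyNoetherian f
  haveI := isLocallyNoetherian_X' C f
  haveI := flat_iY C f
  haveI := hp
  haveI := hp'
  haveI := hG.1
  haveI := hG'.1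
  haveI := (hA 0).coh.1
  haveI := hFc.1
  haveI := hFc'.1
  haveI : IsIso (biprod.lift π π') := isIso_lift_of_chi (k := (IsLocalRing.ResidueField R)) (hA 0).tf1 hd hS
    ((hdec 0).trans (chi_gens (hA 0).tf1)) hG hG'
  let φ := biprod.lift p p'
  haveI : ∀ {A B : Scheme.{u}} (q : A ⟶ B), (Scheme.Modules.pullback q).Additive := fun q =>
    (Scheme.Modules.pullbackPushforwardAdjunction q).left_adjoint_additive
  haveI : PreservesBinaryBiproduct F F' (Scheme.Modules.pullback (i' C f i hsq)) :=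
    preservesBinaryBiproduct_of_preservesBiproduct _ _ _
  haveI : IsIso ((Scheme.Modules.pullback (i' C f i hsq)).map φ) := by
    have h1 : ((Scheme.Modules.pullback (i' C f i hsq)).map φ ≫
        ((Scheme.Modules.pullback (i' C f i hsq)).mapBiprod F F').hom) ≫ (biprod.mapIso e e').hom =
        (αI f i hsq C (In 0)).hom ≫ biprod.lift π π' := by
      rw [biprod.map_lift_mapBiprod]
      refine biprod.hom_ext _ _ ?_ ?_
      · simp only [biprod.mapIso_hom, Category.assoc, biprod.map_fst, biprod.lift_fst, biprod.lift_fst_assoc]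
        exact hcomm
      · simp only [biprod.mapIso_hom, Category.assoc, biprod.map_snd, biprod.lift_snd, biprod.lift_snd_assoc]
        exact hcomm'
    haveI : IsIso (((Scheme.Modules.pullback (i' C f i hsq)).map φ ≫
        ((Scheme.Modules.pullback (i' C f i hsq)).mapBiprod F F').hom) ≫ (biprod.mapIso e e').hom) :=
      h1 ▸ inferInstance
    haveI := IsIso.of_isIso_comp_right ((Scheme.Modules.pullback (i' C f i hsq)).map φ ≫
        ((Scheme.Modules.pullback (i' C f i hsq)).mapBiprod F F').hom) (biprod.mapIso e e').hom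
    exact IsIso.of_isIso_comp_right _ ((Scheme.Modules.pullback (i' C f i hsq)).mapBiprod F F').hom
  have hB : Coh.IsCoh (F ⊞ F') := DevissLib.isCoh_biprod hFc hFc'
  have hBf : FlatMod.IsFlatOver (f' C f) (F ⊞ F') := isFlatOver_of_injective (f' C f) hϖ' fun x v w hvw => by
    refine sub_eq_zero.mp (DevissLib.biprod_ext x (v - w) ?_ ?_)
    · rw [map_sub, sub_eq_zero]
      exact smul_rho_injective (f' C f) hFf hϖ'.ne_zero x
        ((map_smul _ _ _).symm.trans ((congrArg _ hvw).trans (map_smul _ _ _)))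
    · rw [map_sub, sub_eq_zero]
      exact smul_rho_injective (f' C f) hFf' hϖ'.ne_zero x
        ((map_smul _ _ _).symm.trans ((congrArg _ hvw).trans (map_smul _ _ _)))
  haveI := isIso_of_special (f' C f) (i' C f i hsq) hsq' (ConsLib.isCoh_pullback (g C f) (hA 0).coh) hB hBf φ
  letI : (YΩ C f).Over (Spec (CommRingCat.of (ΩC C))) := ⟨qY C f⟩
  have hne' : ∀ {H : (X' C f).Modules} {G₀ : Xs.Modules} (T : Finset Xs), Coh.IsCoh H →
      FlatMod.IsFlatOver (f' C f) H → ((Scheme.Modules.pullback (i' C f i hsq)).obj H ≅ G₀) →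
      CohB1.support G₀ = cl T → T.Nonempty → ¬ IsZero ((Scheme.Modules.pullback (iY C f)).obj H) := by
    intro H G₀ T hH hHf eH hsupp hT hz
    haveI := hH.1
    obtain ⟨η, hη⟩ := hT
    have h1 : η ∈ CohB1.support G₀ := hsupp ▸ Set.mem_biUnion hη (subset_closure rfl)
    rw [← DevissLib.support_iso eH, Groth.Agent.S4357.result (i' C f i hsq) H hH.2] at h1
    obtain ⟨w, hw⟩ := nonempty_fibre_support C f i hsq hH hHf h1
    rw [DevissLib.support_of_isZero hz] at hw
    exact hw
  have hS' : (gens Xs \ S).Nonempty :=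
    Finset.sdiff_nonempty.mpr fun h => hne (Finset.Subset.antisymm hS h)
  have hF0 := hne' S hFc hFf e hG.2.2.2 hSne
  have hF0' := hne' _ hFc' hFf' e' hG'.2.2.2 hS'
  haveI : PreservesBinaryBiproduct F F' (Scheme.Modules.pullback (iY C f)) :=
    preservesBinaryBiproduct_of_preservesBiproduct _ _ _
  let Ψ : (Scheme.Modules.pullback (iY C f ≫ g C f)).obj (In 0) ≅
      (Scheme.Modules.pullback (iY C f)).obj F ⊞ (Scheme.Modules.pullback (iY C f)).obj F' :=
    ((Scheme.Modules.pullbackComp (iY C f) (g C f)).app (In 0)).symm ≪≫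
      (Scheme.Modules.pullback (iY C f)).mapIso (asIso φ) ≪≫ (Scheme.Modules.pullback (iY C f)).mapBiprod F F'
  let ε := Ψ.hom ≫ biprod.fst ≫ biprod.inl ≫ Ψ.inv
  have e1 : ε ≫ (Ψ.hom ≫ biprod.fst) = Ψ.hom ≫ biprod.fst := by
    simp only [ε, Category.assoc, Iso.inv_hom_id_assoc, biprod.inl_fst, Category.comp_id]
  have e2 : ε ≫ (Ψ.hom ≫ biprod.snd) = 0 := by
    simp only [ε, Category.assoc, Iso.inv_hom_id_assoc, biprod.inl_snd, comp_zero]
  obtain ⟨c, hc'⟩ := hY.2 ε
  have hc : ε = Formal.smulMod (ΩC C) _ c := hc'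
  have hc0 : c = 0 := by
    refine TFQuotLib.smul_eq_zero' hF0' ((cancel_epi (Ψ.hom ≫ biprod.snd)).mp ?_)
    rw [AlgzCohLib.smulMod_naturality, ← hc, e2, comp_zero]
  refine hF0 ((IsZero.iff_id_eq_zero _).mpr ((cancel_epi (Ψ.hom ≫ biprod.fst)).mp ?_))
  rw [Category.comp_id, comp_zero, ← e1, hc, hc0, TFQuotLib.smul_zero', zero_comp]

end TFExtLib

end
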