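import Groth.Agent.TFExtLib.Fibre
import Groth.Agent.TFExtLib.Algo
import Groth.Agent.TFExtLib.Degen

/-!
# Extensions with the prescribed stability
-/

set_option autoImplicit false
set_option linter.style.haveILetI false
set_option linter.unusedSectionVars false

universe u

open CategoryTheory CategoryTheory.Limits AlgebraicGeometry TopologicalSpace Opposite
open DevissLib IntMultLib TFQuotLib TFModLib

noncomputable section

namespace TFExtLib

theorem exists_component {Z : Scheme.{u}} [AlgebraicGeometry.IsNoetherian Z] [IsReduced Z] (z : Z) :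
    ∃ w ∈ gens Z, w ⤳ z := by
  obtain ⟨η, hη, -, h⟩ := gdense_univ.2 z (Set.mem_univ z)
  exact ⟨η, mem_gens.mpr hη, h⟩

variable {R : Type u} [CommRing R] [IsDomain R] [IsDiscreteValuationRing R]
  {X : Scheme.{u}} (f : X ⟶ Spec (CommRingCat.of R)) [IsProper f] [Flat f] [GeometricallyReduced f]
  {Xs : Scheme.{u}} [Xs.Over (Spec (CommRingCat.of (IsLocalRing.ResidueField R)))] (i : Xs ⟶ X)
  [IsProper (Xs ↘ Spec (CommRingCat.of (IsLocalRing.ResidueField R)))]
  [AlgebraicGeometry.IsNoetherian Xs] [IsReduced Xs] [DecidableEq Xs]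
  (hsq : IsPullback i (Xs ↘ Spec (CommRingCat.of (IsLocalRing.ResidueField R))) f
    (Spec.map (CommRingCat.ofHom (IsLocalRing.residue R))))
  (hd : topologicalKrullDim Xs ≤ 1)
  (hgi : ∀ (C : Set Xs) (hC : C ∈ irreducibleComponents (Xs : Type u)), GeometricallyIntegral
    (VecSt.subschι Xs C (isClosed_of_mem_irreducibleComponents C hC) ≫
      (Xs ↘ Spec (CommRingCat.of (IsLocalRing.ResidueField R)))))
  {Xg : Scheme.{u}} [Xg.Over (Spec (CommRingCat.of (FractionRing R)))] (j : Xg ⟶ X)
  (hgen : IsPullback j (Xg ↘ Spec (CommRingCat.of (FractionRing R))) f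
    (Spec.map (CommRingCat.ofHom (algebraMap R (FractionRing R)))))
  (I : X.Modules) (hI : TFOne.IsRelTF1 f I)

/-- An extension of the given sheaf on the generic fibre. -/
def Ext (a : X.Modules) : Prop :=
  Adm f i a ∧ Nonempty ((Scheme.Modules.pullback j).obj a ≅ (Scheme.Modules.pullback j).obj I) ∧
    Curv2.euler (IsLocalRing.ResidueField R) Xs ((Scheme.Modules.pullback i).obj a) =
      Curv2.euler (IsLocalRing.ResidueField R) Xs ((Scheme.Modules.pullback i).obj I)

include hgen in
theorem flat_j : Flat j := by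
  haveI : Flat (Spec.map (CommRingCat.ofHom (algebraMap R (FractionRing R)))) :=
    (HasRingHomProperty.Spec_iff (P := @Flat)).mpr
      (RingHom.flat_algebraMap_iff.mpr (IsLocalization.flat _ (nonZeroDivisors R)))
  exact MorphismProperty.of_isPullback hgen.flip ‹_›

include hgen hsq in
theorem disjoint_j (z : Xg) : j z ∉ Set.range ⇑i := by
  rintro ⟨w, hw⟩
  have h1 : f (i w) = IsLocalRing.closedPoint R := by
    rw [← Scheme.Hom.comp_apply, hsq.w, Scheme.Hom.comp_apply]
    haveI : IsLocalHom (CommRingCat.ofHom (IsLocalRing.residue R)).hom :=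
      inferInstanceAs (IsLocalHom (IsLocalRing.residue R))
    exact (congrArg _ (Subsingleton.elim (α := PrimeSpectrum (IsLocalRing.ResidueField R)) _ _)).trans
      (Spec_closedPoint (f := CommRingCat.ofHom (IsLocalRing.residue R)))
  rw [hw, ← Scheme.Hom.comp_apply, hgen.w, Scheme.Hom.comp_apply] at h1
  have h2 := congrArg PrimeSpectrum.asIdeal h1
  refine IsDiscreteValuationRing.not_a_field R (h2.symm.trans ?_)
  show Ideal.comap (algebraMap R (FractionRing R)) _ = ⊥
  rw [Subsingleton.elim (α := PrimeSpectrum (FractionRing R)) ((Xg ↘ Spec (CommRingCat.of (FractionRing R))) z) ⊥]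
  exact (RingHom.injective_iff_ker_eq_bot _).mp (IsFractionRing.injective R _)

include hsq hd hgen in
theorem Ext.step {a b : X.Modules} {S : Finset Xs} (ha : Ext f i j I a) (h : Step i S a b) : Ext f i j I b := by
  haveI := isClosedImmersion_of_isPullback f i _ hsq
  haveI := flat_j f j hgen
  obtain ⟨h1, h2⟩ := Step.adm f i hsq ha.1 h
  exact ⟨h1, ⟨(Step.generic f i j (disjoint_j f i hsq j hgen) ha.1 h).some ≪≫ ha.2.1.some⟩, h2.trans ha.2.2⟩

/-- The modifications as a numerical system. -/
def langton : Langton X.Modules (gens Xs) where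
  c a S := chi (IsLocalRing.ResidueField R) ((Scheme.Modules.pullback i).obj a) S
  step S a b := Step i S a b
  P := Ext f i j I
  exists_step ha hS := exists_step f i ha.1 hS
  P_step ha _ h := Ext.step f i hsq hd j hgen I ha h
  c_step {a b S} ha _ h := by
    rw [chi_gens (Step.adm f i hsq ha.1 h).1.tf1, chi_gens ha.1.tf1]
    exact (Step.adm f i hsq ha.1 h).2
  compare ha hS hT h := Step.compare f i hsq hd ha.1 hS h hT
  compl {a b S} ha hS h := by
    rw [chi_gens ha.1.tf1]
    exact Step.chi_compl f i hsq hd ha.1 hS h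
  submod ha hS hT := chi_submod ha.1.tf1 hd hS hT
  c_empty ha := chi_empty ha.1.tf1

include hsq hd hI in
theorem ext_self : Ext f i j I I :=
  ⟨adm_of_relTF1 f i hsq hd hI, ⟨Iso.refl _⟩, rfl⟩

include hsq hd hgen hI in
theorem Ext.relTF1 {a : X.Modules} (ha : Ext f i j I a) : TFOne.IsRelTF1 f a :=
  relTF1_of_adm f j hgen i hsq hd hI ha.1 ha.2.1.some

section Simple

variable (hIg : TFOne.FibSimple (Xg ↘ Spec (CommRingCat.of (FractionRing R))) ((Scheme.Modules.pullback j).obj I))

include hsq hgen hIg in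
theorem nonempty_special : Nonempty Xs := by
  let Ω := AlgebraicClosure (FractionRing R)
  let ω : Spec (CommRingCat.of Ω) ⟶ Spec (CommRingCat.of (FractionRing R)) :=
    Spec.map (CommRingCat.ofHom (algebraMap _ _))
  let s := Xg ↘ Spec (CommRingCat.of (FractionRing R))
  have hs := hIg Ω ω _ _ _ (IsPullback.of_hasPullback s ω)
  by_contra hn
  rw [not_nonempty_iff] at hn
  have h1 := eq_empty_of_avoid f i hsq (T := Set.univ) isClosed_univ fun z => (hn.false z).elim
  exact hs.1 (isZero_of_support_empty (Set.eq_empty_of_forall_notMem fun y _ =>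
    (h1.le (Set.mem_univ (j ((pullback.fst s ω) y))) : False)))

include hsq hd hgi hgen hIg in
theorem fibSimple_of {a : X.Modules} (ha : Ext f i j I a)
    (h : ∀ S, S ⊆ gens Xs → S.Nonempty → S ≠ gens Xs → ¬ (langton f i hsq hd j hgen I).Dec a S) :
    TFOne.FibSimple f a := by
  classical
  intro Ω _ _ t Y iY qY H
  by_cases hp : t (IsLocalRing.closedPoint Ω) = IsLocalRing.closedPoint R
  · obtain ⟨ω, q, Hq, hq, -⟩ := of_closed f i hsq H hp
    obtain ⟨hP, hN, hR, hdY⟩ := fibre_props f i hsq hd H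
    haveI := hN
    haveI := hR
    letI : Y.Over (Spec (CommRingCat.of Ω)) := ⟨qY⟩
    haveI : IsProper (Y ↘ Spec (CommRingCat.of Ω)) := hP
    haveI := nonempty_special f i hsq j hgen I hIg
    exact isSimple_of_iso (pullIso q i hq a).symm
      (fibre_simple (k := IsLocalRing.ResidueField R) (Ω := Ω) q Hq hgi ha.1.tf1 hdY hd fun S hS hne hne' he => h S hS hne hne' he)
  · exact isSimple_generic f j hgen ha.2.1.some hIg H hp

include hsq hd hgen hIg in
theorem no_simple_tower {In In' : ℕ → X.Modules} {S : Finset Xs} (hS : S ⊆ gens Xs) (hne : S ≠ gens Xs)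
    (hSne : S.Nonempty) (he : In 0 = In' 0) (hA : ∀ n, Ext f i j I (In n)) (hA' : ∀ n, Ext f i j I (In' n))
    (hst : ∀ n, Step i S (In n) (In (n + 1))) (hst' : ∀ n, Step i (gens Xs \ S) (In' n) (In' (n + 1)))
    (hdc : ∀ n, (langton f i hsq hd j hgen I).Dec (In n) S)
    (hdc' : ∀ n, (langton f i hsq hd j hgen I).Dec (In' n) S) : False := by
  obtain ⟨C⟩ := nonempty_completed R
  exact no_simple C f i hsq hd hS (fun n => (hA n).1) hst hdc hSne hne he (fun n => (hA' n).1) hst' hdc'
    (isSimple_generic f j hgen (hA 0).2.1.some hIg (isPullback_YΩ C f) (tΩ_ne C _))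

include hsq hd hgi hgen hI hIg in
theorem exists_fibSimple (Q : X.Modules → Prop)
    (hQs : ∀ {a b : X.Modules} {U : Finset Xs}, Ext f i j I a → Q a → U ⊆ gens Xs →
      (langton f i hsq hd j hgen I).Dec a U → Step i U a b → Q b)
    {a₀ : X.Modules} (ha₀ : Ext f i j I a₀) (hq₀ : Q a₀) :
    ∃ a, Ext f i j I a ∧ Q a ∧ TFOne.FibSimple f a := by
  haveI := nonempty_special f i hsq j hgen I hIg
  obtain ⟨η, hη, -⟩ := gdense_univ.2 (Classical.arbitrary Xs) (Set.mem_univ _)
  obtain ⟨a, ha, hqa, h⟩ := exists_simple (langton f i hsq hd j hgen I) (w := η) (mem_gens.mpr hη) Q hQs ha₀ hq₀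
    fun In In' S hS hne hw he hA hA' hst hst' hdc hdc' =>
      no_simple_tower f i hsq hd j hgen I hIg hS hne ⟨η, hw⟩ he hA hA' hst hst' hdc hdc'
  exact ⟨a, ha, hqa, fibSimple_of f i hsq hd hgi j hgen I hIg ha h⟩

end Simple

section Semistable

variable {E : X.Modules} {r : ℕ} (hr : 0 < r) (hE : FlatMod.IsFinLocFreeOfRank r E) {d : ℤ}
  (hχ : Curv2.euler (IsLocalRing.ResidueField R) Xs ((Scheme.Modules.pullback i).obj I) = d)
  (hEd : Curv2.deg (IsLocalRing.ResidueField R) Xs ((Scheme.Modules.pullback i).obj E) r = -(r : ℤ) * d)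

/-- What we need of the degree function. -/
structure IsDeg (D : Finset Xs → ℤ) : Prop where
  add : ∀ S T : Finset Xs, S ⊆ gens Xs → T ⊆ gens Xs → D (S ∩ T) + D (S ∪ T) = D S + D T
  empty : D ∅ = 0
  total : ∀ a, Ext f i j I a →
    (r : ℤ) * chi (IsLocalRing.ResidueField R) ((Scheme.Modules.pullback i).obj a) (gens Xs) + D (gens Xs) = 0
  quot : ∀ a, Ext f i j I a → ∀ S : Finset Xs, ∀ (G : Xs.Modules) (π : (Scheme.Modules.pullback i).obj a ⟶ G),
    TFOne.IsQuotOn Xs ((Scheme.Modules.pullback i).obj a) (cl S) G π →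
      Curv2.euler (IsLocalRing.ResidueField R) Xs (CohB1.tensorMod G ((Scheme.Modules.pullback i).obj E)) =
        r * chi (IsLocalRing.ResidueField R) ((Scheme.Modules.pullback i).obj a) S + D S

include hd hE hχ hEd in
theorem exists_isDeg : ∃ D, IsDeg f i j I (E := E) (r := r) D := by
  classical
  obtain ⟨D, -, hadd, htot, hD0, h5⟩ := exists_degFun' (k := IsLocalRing.ResidueField R) hd
    (SeesawLib.isFinLocFreeOfRank_pullback i hE)
  refine ⟨fun S => D (cl S), ⟨fun S T hS hT => ?_, by simpa [cl_empty] using hD0, fun a ha => ?_,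
    fun a ha S G π hG => ?_⟩⟩
  · rw [cl_union]
    refine hadd _ _ _ fun η hη => ?_
    rw [mem_cl (Finset.inter_subset_left.trans hS) hη, mem_cl hS hη, mem_cl hT hη, Finset.mem_inter]
  · show _ + D (cl (gens Xs)) = 0
    rw [chi_gens ha.1.tf1, ha.2.2, hχ, (cl_eq_univ_iff (S := gens Xs) (subset_refl _)).mpr rfl, htot, hEd]
    ring
  · have h := h5 G (cl S) hG.2.1 fun η hη => len_quot ha.1.tf1 hG hη
    rw [chi_eq ha.1.tf1 hG]
    linarith

variable {D : Finset Xs → ℤ} (hD : IsDeg f i j I (E := E) (r := r) D)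

include hsq hd hD in
theorem euler_top {a : X.Modules} (ha : Ext f i j I a) :
    Curv2.euler (IsLocalRing.ResidueField R) Xs
      (CohB1.tensorMod ((Scheme.Modules.pullback i).obj a) ((Scheme.Modules.pullback i).obj E)) = 0 := by
  rw [hD.quot a ha (gens Xs) _ (𝟙 _)
    (((cl_eq_univ_iff (S := gens Xs) (subset_refl _)).mpr rfl).symm ▸ isQuotOn_univ ha.1.tf1)]
  exact hD.total a ha

include hsq hd hgi hgen hE hD in
theorem fibSemistable_of (hIg : TFOne.FibSemistable (Xg ↘ Spec (CommRingCat.of (FractionRing R)))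
      ((Scheme.Modules.pullback j).obj I) ((Scheme.Modules.pullback j).obj E) r)
    {a : X.Modules} (ha : Ext f i j I a)
    (h : ∀ S, S ⊆ gens Xs → 0 ≤ (langton f i hsq hd j hgen I).beta r D a S) : TFOne.FibSemistable f a E r := by
  classical
  intro Ω _ _ t Y iY qY H
  by_cases hp : t (IsLocalRing.closedPoint Ω) = IsLocalRing.closedPoint R
  · obtain ⟨ω, q, Hq, hq, -⟩ := of_closed f i hsq H hp
    obtain ⟨hP, hN, hR, hdY⟩ := fibre_props f i hsq hd H
    haveI := hN
    haveI := hR
    letI : Y.Over (Spec (CommRingCat.of Ω)) := ⟨qY⟩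
    haveI : IsProper (Y ↘ Spec (CommRingCat.of Ω)) := hP
    exact isSemistable_of_iso (pullIso q i hq a).symm (pullIso q i hq E).symm
      (fibre_semistable (k := IsLocalRing.ResidueField R) (Ω := Ω) q Hq hgi ha.1.tf1 (SeesawLib.isFinLocFreeOfRank_pullback i hE) hdY
        fun S hS G π hG => (hD.quot a ha S G π hG).symm ▸ h S hS)
  · exact isSemistable_generic f j hgen ha.2.1.some hIg H hp

variable (hIg : TFOne.FibSemistable (Xg ↘ Spec (CommRingCat.of (FractionRing R)))
      ((Scheme.Modules.pullback j).obj I) ((Scheme.Modules.pullback j).obj E) r)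

include hsq hd hgen hI hr hE hD hIg in
theorem exists_semistable_ext :
    ∃ a, Ext f i j I a ∧ ∀ S, S ⊆ gens Xs → 0 ≤ (langton f i hsq hd j hgen I).beta r D a S :=
  exists_semistable (langton f i hsq hd j hgen I) r D hD.add hD.empty hD.total hr (ext_self f i hsq hd j I hI)
    fun In S hS hA hst hdc hneg => by
      obtain ⟨C⟩ := nonempty_completed R
      exact no_semistable C f i hsq hE hd hS (fun n => (hA n).1) hst hdc (euler_top f i hsq hd j I hD (hA 0))
        (fun G π hG => (hD.quot _ (hA 0) S G π hG).symm ▸ hneg)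
        (isSemistable_generic f j hgen (hA 0).2.1.some hIg (isPullback_YΩ C f) (tΩ_ne C _))

end Semistable

section Quasistable

variable {E : X.Modules} {r : ℕ} (hr : 0 < r) (hE : FlatMod.IsFinLocFreeOfRank r E)
  {D : Finset Xs → ℤ} (hD : IsDeg f i j I (E := E) (r := r) D)
  {σ : Spec (CommRingCat.of R) ⟶ X} (hσ : σ ≫ f = 𝟙 _) {U : X.Opens} [Smooth (U.ι ≫ f)]
  (hσU : Set.range σ.base ⊆ (U : Set X))
  {σg : Spec (CommRingCat.of (FractionRing R)) ⟶ Xg}
  (hσg : σg ≫ (Xg ↘ Spec (CommRingCat.of (FractionRing R))) = 𝟙 _)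
  (hσgj : σg ≫ j = Spec.map (CommRingCat.ofHom (algebraMap R (FractionRing R))) ≫ σ)
  (hIg : TFOne.FibQuasistableAlong (Xg ↘ Spec (CommRingCat.of (FractionRing R)))
    ((Scheme.Modules.pullback j).obj I) ((Scheme.Modules.pullback j).obj E) σg hσg r)

include hgen hσgj hIg in
theorem fibSemistable_of_quasistable :
    TFOne.FibSemistable (Xg ↘ Spec (CommRingCat.of (FractionRing R))) ((Scheme.Modules.pullback j).obj I)
      ((Scheme.Modules.pullback j).obj E) r := by
  intro Ω _ _ t Y q qY H
  let y : Spec (CommRingCat.of Ω) ⟶ Y := H.lift (t ≫ σg) (𝟙 _) (by rw [Category.assoc, hσg, Category.comp_id, Category.id_comp])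
  exact (hIg Ω t Y q qY H y (H.lift_fst _ _ _) (H.lift_snd _ _ _)).1

include hsq hd hgi hgen hI hr hE hD hσU hσgj hIg in
theorem exists_fibQuasistable :
    ∃ a, Ext f i j I a ∧ TFOne.FibQuasistableAlong f a E σ hσ r := by
  classical
  let z₀ : Xs := σs f i hsq hσ (IsLocalRing.closedPoint (IsLocalRing.ResidueField R))
  obtain ⟨w, hw, hwz⟩ := exists_component z₀
  have hzU : i z₀ ∈ U := hσU ⟨Spec.map (CommRingCat.ofHom (IsLocalRing.residue R))
      (IsLocalRing.closedPoint (IsLocalRing.ResidueField R)),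
    ((Scheme.Hom.comp_apply _ _ _).symm.trans ((congr($(σs_i f i hsq hσ)
      (IsLocalRing.closedPoint (IsLocalRing.ResidueField R)))).symm.trans (Scheme.Hom.comp_apply _ _ _)))⟩
  have huniq : ∀ η ∈ gens Xs, η ⤳ z₀ → η = w := fun η hη h =>
    eq_of_specializes_smooth f i hsq hzU (mem_gens.mp hη) (mem_gens.mp hw) h hwz
  have hIs := fibSemistable_of_quasistable f j hgen I hσg hσgj hIg
  obtain ⟨a₀, ha₀, hss₀⟩ := exists_semistable_ext f i hsq hd j hgen I hI hr hE hD hIs
  obtain ⟨a, ha, hss, hqs⟩ := exists_quasistable (langton f i hsq hd j hgen I) r D hD.add hD.total hr hw ha₀ hss₀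
    fun In S hS hne hwS hA hst hdc hzero => by
      obtain ⟨C⟩ := nonempty_completed R
      let σ' : Spec (CommRingCat.of C.R') ⟶ X' C f :=
        pullback.lift (Spec.map (CommRingCat.ofHom C.φ) ≫ σ) (𝟙 _)
          (by rw [Category.assoc, hσ, Category.comp_id, Category.id_comp])
      let y : Spec (CommRingCat.of (ΩC C)) ⟶ YΩ C f :=
        pullback.lift (tΩ C ≫ σ') (𝟙 _) (by rw [Category.assoc, pullback.lift_snd, Category.comp_id, Category.id_comp])
      have h1 : σs f i hsq hσ ≫ i' C f i hsq = Spec.map (CommRingCat.ofHom C.ψ) ≫ σ' := by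
        apply pullback.hom_ext
        · rw [Category.assoc, Category.assoc, pullback.lift_fst, show i' C f i hsq ≫ pullback.fst f _ = i from
            i'_g C f i hsq, σs_i, ← Category.assoc, specMap_ψ]
        · rw [Category.assoc, Category.assoc, pullback.lift_snd, Category.comp_id,
            show i' C f i hsq ≫ pullback.snd f _ = _ from pullback.lift_snd _ _ _, ← Category.assoc,
            show σs f i hsq hσ ≫ (Xs ↘ Spec (CommRingCat.of (IsLocalRing.ResidueField R))) = 𝟙 _ from
              hsq.lift_snd _ _ _, Category.id_comp]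
      have hy : iY C f (y (IsLocalRing.closedPoint (ΩC C))) ⤳ i' C f i hsq z₀ := by
        rw [← Scheme.Hom.comp_apply, pullback.lift_fst, ← Scheme.Hom.comp_apply, h1, Scheme.Hom.comp_apply,
          Scheme.Hom.comp_apply]
        haveI : IsLocalHom (CommRingCat.ofHom C.ψ).hom :=
          .of_surjective _ C.ψ_surj
        rw [Spec_closedPoint (f := CommRingCat.ofHom C.ψ)]
        exact (IsLocalRing.specializes_closedPoint _).map σ'.continuous
      exact no_quasistable C f i hsq hE hd hS (fun n => (hA n).1) hst hdc hr hne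
        (fun η hη h => huniq η hη h ▸ hwS) (euler_top f i hsq hd j I hD (hA 0))
        (fun G π hG => (hD.quot _ (hA 0) S G π hG).trans hzero) _ hy
        (isQuasistable_generic f j hgen (hA 0).2.1.some hσg hσgj hIg (isPullback_YΩ C f) (tΩ_ne C _) y
          (by rw [← Category.assoc, pullback.lift_fst, Category.assoc, pullback.lift_fst, Category.assoc])
          (pullback.lift_snd _ _ _))
  refine ⟨a, ha, fun Ω _ _ t Y iY qY H y hy hy' => ?_⟩
  by_cases hp : t (IsLocalRing.closedPoint Ω) = IsLocalRing.closedPoint R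
  · obtain ⟨ω, q, Hq, hq, hω⟩ := of_closed f i hsq H hp
    obtain ⟨hP, hN, hR, hdY⟩ := fibre_props f i hsq hd H
    haveI := hN
    haveI := hR
    letI : Y.Over (Spec (CommRingCat.of Ω)) := ⟨qY⟩
    haveI : IsProper (Y ↘ Spec (CommRingCat.of Ω)) := hP
    have hyq : y ≫ q = ω ≫ σs f i hsq hσ := by
      apply hsq.hom_ext
      · rw [Category.assoc, hq, hy, Category.assoc, σs_i, ← Category.assoc, hω]
      · rw [Category.assoc, Hq.w, ← Category.assoc, hy', Category.id_comp, Category.assoc,
          show σs f i hsq hσ ≫ (Xs ↘ Spec (CommRingCat.of (IsLocalRing.ResidueField R))) = 𝟙 _ from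
            hsq.lift_snd _ _ _, Category.comp_id]
    have hqy : q (y (IsLocalRing.closedPoint Ω)) = z₀ := by
      rw [← Scheme.Hom.comp_apply, hyq, Scheme.Hom.comp_apply]
      exact congrArg _ (Subsingleton.elim (α := PrimeSpectrum (IsLocalRing.ResidueField R)) _ _)
    refine isQuasistableAtPt_of_iso (pullIso q i hq a).symm (pullIso q i hq E).symm
      (fibre_quasistable (k := IsLocalRing.ResidueField R) (Ω := Ω) q Hq hgi ha.1.tf1 (SeesawLib.isFinLocFreeOfRank_pullback i hE) hdY
        (fun S hS G π hG => (hD.quot a ha S G π hG).symm ▸ hss S hS) (w := w)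
        (fun S hS hne hwS G π hG => (hD.quot a ha S G π hG).symm ▸ hqs S hS hne hwS) fun η hη h => ?_)
    exact huniq η hη (hqy ▸ h)
  · exact isQuasistable_generic f j hgen ha.2.1.some hσg hσgj hIg H hp y hy hy'

end Quasistable

end TFExtLib

end
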