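import Groth.Agent.TFModLib.Sub
import Groth.Agent.TFModLib.Res
import Groth.Agent.TFQuotLib.Decomp
import Groth.Agent.S4357
import Mathlib.AlgebraicGeometry.Morphisms.UniversallyOpen
import Mathlib.RingTheory.Regular.IsSMulRegular
import Mathlib.RingTheory.Flat.FaithfullyFlat.Algebra

/-!
# Torsion free modules along flat morphisms
-/

set_option autoImplicit false
set_option linter.style.haveILetI false
set_option linter.unusedSectionVars false

universe u

open CategoryTheory CategoryTheory.Limits AlgebraicGeometry TopologicalSpace Opposite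
open DevissLib TFQuotLib
open scoped TensorProduct

noncomputable section

namespace TFExtLib

variable {X : Scheme.{u}}

/-- A point with reduced stalk killed by its maximal ideal at some element is generic. -/
theorem mem_generic_of_isField {η : X} (h : IsField (X.presheaf.stalk η)) : η ∈ genericPoints X := by
  refine mem_genericPoints fun z hz => ?_
  have hr : z ∈ Set.range (X.fromSpecStalk η) := by
    rw [Scheme.range_fromSpecStalk]
    exact hz
  obtain ⟨q, rfl⟩ := hr
  letI := h.toField
  have hq : q = IsLocalRing.closedPoint (X.presheaf.stalk η) :=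
    Subsingleton.elim (α := PrimeSpectrum (X.presheaf.stalk η)) _ _
  rw [hq]
  exact Scheme.fromSpecStalk_closedPoint

theorem isField_of_killed {A : Type u} [CommRing A] [IsLocalRing A] [_root_.IsReduced A] {a : A} (ha : a ≠ 0)
    (h : ∀ r ∈ IsLocalRing.maximalIdeal A, r * a = 0) : IsField A := by
  by_cases hu : IsUnit a
  · rw [IsLocalRing.isField_iff_maximalIdeal_eq, eq_bot_iff]
    exact fun r hr => hu.mul_left_eq_zero.mp (h r hr)
  · exact absurd (IsReduced.eq_zero a ⟨2, by rw [pow_two]; exact h a hu⟩) ha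

/-- Away from the generic points the maximal ideal contains a regular element. -/
theorem exists_regular [AlgebraicGeometry.IsNoetherian X] [AlgebraicGeometry.IsReduced X] {x : X}
    (hx : x ∉ genericPoints X) :
    ∃ r ∈ IsLocalRing.maximalIdeal (X.presheaf.stalk x), IsRegular r := by
  let A := X.presheaf.stalk x
  by_contra hn
  push Not at hn
  have hsub : (IsLocalRing.maximalIdeal A : Set A) ⊆ ⋃ p ∈ (minimalPrimes A), (p : Set A) := fun r hr => by
    by_contra hc
    simp only [Set.mem_iUnion, SetLike.mem_coe, not_exists] at hc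
    refine hn r hr (isRegular_iff_mem_nonZeroDivisors.mpr (mem_nonZeroDivisors_iff_right.mpr fun a ha => ?_))
    have h0 : a ∈ nilradical A := by
      rw [nilradical, ← Ideal.sInf_minimalPrimes, Ideal.mem_sInf]
      exact fun p hp => (hp.1.1.mem_or_mem (show a * r ∈ p from ha ▸ p.zero_mem)).resolve_right (hc p hp)
    exact IsReduced.eq_zero a h0
  have hfin : (minimalPrimes A).Finite := minimalPrimes.finite_of_isNoetherianRing A
  obtain ⟨p, hp, hle⟩ := (Ideal.subset_union_prime_finite hfin (f := id) ⊥ ⊥
    fun p hp _ _ => hp.1.1).mp hsub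
  haveI : p.IsPrime := hp.1.1
  have hm : IsLocalRing.maximalIdeal A = p := le_antisymm hle (IsLocalRing.le_maximalIdeal hp.1.1.ne_top)
  refine hx (mem_generic_of_isField (IsLocalRing.isField_iff_maximalIdeal_eq.mpr ?_))
  rw [eq_bot_iff]
  intro r hr
  refine IsReduced.eq_zero r ?_
  have : nilradical A = IsLocalRing.maximalIdeal A := by
    rw [nilradical, ← Ideal.sInf_minimalPrimes]
    refine le_antisymm ((sInf_le hp).trans hm.ge) (le_sInf fun q hq => ?_)
    rw [hm]
    exact hp.2 ⟨hq.1.1, bot_le⟩ ((IsLocalRing.le_maximalIdeal hq.1.1.ne_top).trans hm.le)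
  rw [← this] at hr
  exact hr

variable {Y : Scheme.{u}} (q : Y ⟶ X)

/-- The stalk of a pull back. -/
theorem exists_stalkEquiv (N : X.Modules) (y : Y) :
    letI := (q.stalkMap y).hom.toAlgebra
    Nonempty ((St y).obj ((Scheme.Modules.pullback q).obj N) ≃ₗ[Y.presheaf.stalk y]
      Y.presheaf.stalk y ⊗[X.presheaf.stalk (q y)] (St (q y)).obj N) :=
  ⟨((KFlatLib.stalkPullIso q y).app N).toLinearEquiv⟩

theorem mem_generic_map [Flat q] {y : Y} (hy : y ∈ genericPoints Y) : q y ∈ genericPoints X :=
  mem_genericPoints fun z hz => by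
    obtain ⟨w, hw, rfl⟩ := Flat.generalizingMap q hz
    rw [eq_of_specializes_generic hy hw]

theorem exists_generic_over [AlgebraicGeometry.IsNoetherian X] [Surjective q] {η : X}
    (hη : η ∈ genericPoints X) : ∃ y ∈ genericPoints Y, q y = η := by
  obtain ⟨z, rfl⟩ := q.surjective η
  obtain ⟨C, hC, hzC⟩ := exists_mem_irreducibleComponents_subset_of_isIrreducible _
    (isIrreducible_singleton (x := z)).closure
  have hg := hC.1.isGenericPoint_genericPoint (isClosed_of_mem_irreducibleComponents C hC)
  refine ⟨hC.1.genericPoint, ?_, eq_of_specializes_generic hη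
    ((hg.specializes (hzC (subset_closure rfl))).map q.continuous)⟩
  show closure {hC.1.genericPoint} ∈ irreducibleComponents Y
  rw [hg.def]
  exact hC

/-- Torsion freeness is kept by flat pull back to a reduced scheme. -/
theorem torsionFree_pullback [AlgebraicGeometry.IsNoetherian X] [AlgebraicGeometry.IsReduced X]
    [AlgebraicGeometry.IsNoetherian Y] [AlgebraicGeometry.IsReduced Y] [Flat q] {M : X.Modules}
    (hM : Coh.IsCoh M) (htf : TorSh.IsTorsionFree M) :
    TorSh.IsTorsionFree ((Scheme.Modules.pullback q).obj M) := by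
  haveI := hM.1
  refine TFModLib.torsionFree_of_asso_generic (ConsLib.isCoh_pullback q hM) fun y ⟨a, ha, hk⟩ => ?_
  let A := X.presheaf.stalk (q y)
  let B := Y.presheaf.stalk y
  letI : Algebra A B := (q.stalkMap y).hom.toAlgebra
  obtain ⟨e⟩ := exists_stalkEquiv q M y
  have hk' : ∀ b ∈ IsLocalRing.maximalIdeal B, b • e a = 0 := fun b hb => by
    rw [← map_smul, hk b hb, map_zero]
  have hea : e a ≠ 0 := fun h => ha (e.injective (h.trans (map_zero e).symm))
  haveI : IsLocalHom (algebraMap A B) := inferInstanceAs (IsLocalHom (q.stalkMap y).hom)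
  haveI : Module.Flat A B := Flat.stalkMap q y
  by_cases hx : q y ∈ genericPoints X
  · letI := (TFQuotLib.isField_stalk_generic hx).toField
    let bs := Module.Free.chooseBasis A ((St (q y)).obj M)
    let bB := bs.baseChange B
    obtain ⟨i, hi⟩ : ∃ i, bB.repr (e a) i ≠ 0 := by
      by_contra h
      push Not at h
      exact hea (bB.repr.injective (Finsupp.ext fun i => by rw [h i, map_zero]; rfl))
    refine mem_generic_of_isField (isField_of_killed hi fun b hb => ?_)
    have h2 := congrArg (fun t => bB.repr t i) (hk' b hb)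
    simp only [map_smul, Finsupp.smul_apply, map_zero, Finsupp.zero_apply, smul_eq_mul] at h2
    exact h2
  · exfalso
    obtain ⟨r, hr, hreg⟩ := exists_regular hx
    haveI : Module.IsTorsionFree A ((St (q y)).obj M) := htf (q y)
    have h1 : IsSMulRegular (B ⊗[A] (St (q y)).obj M) r :=
      IsSMulRegular.lTensor B (hreg.isSMulRegular (M := (St (q y)).obj M))
    refine hea (h1.right_eq_zero_of_smul ?_)
    rw [← IsScalarTower.algebraMap_smul B r (e a)]
    exact hk' _ ((IsLocalRing.mem_maximalIdeal _).mpr fun hu =>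
      (IsLocalRing.mem_maximalIdeal _).mp hr (hu.of_map _ r))

theorem isTF1_pullback [AlgebraicGeometry.IsNoetherian X] [AlgebraicGeometry.IsReduced X]
    [AlgebraicGeometry.IsNoetherian Y] [AlgebraicGeometry.IsReduced Y] [Flat q] {M : X.Modules}
    (hM : TFOne.IsTF1 X M) : TFOne.IsTF1 Y ((Scheme.Modules.pullback q).obj M) := by
  haveI := hM.1.1
  refine ⟨ConsLib.isCoh_pullback q hM.1, torsionFree_pullback q hM.1 hM.2.1, fun y hy => ?_⟩
  letI : Algebra (X.presheaf.stalk (q y)) (Y.presheaf.stalk y) := (q.stalkMap y).hom.toAlgebra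
  obtain ⟨ε⟩ := hM.2.2 (q y) (mem_generic_map q hy)
  obtain ⟨e⟩ := exists_stalkEquiv q M y
  exact ⟨e.trans ((TensorProduct.AlgebraTensorModule.congr (LinearEquiv.refl (Y.presheaf.stalk y) (Y.presheaf.stalk y))
    (show (St (q y)).obj M ≃ₗ[X.presheaf.stalk (q y)] X.presheaf.stalk (q y) from ε)).trans
      (TensorProduct.AlgebraTensorModule.rid _ _ _))⟩

theorem isTF1_of_pullback [AlgebraicGeometry.IsNoetherian X] [AlgebraicGeometry.IsReduced X]
    [Flat q] [Surjective q] {M : X.Modules} (hM : Coh.IsCoh M)
    (h : TFOne.IsTF1 Y ((Scheme.Modules.pullback q).obj M)) : TFOne.IsTF1 X M := by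
  refine ⟨hM, fun x => ⟨fun r hr v w hvw => ?_⟩, fun η hη => ?_⟩
  · obtain ⟨y, rfl⟩ := q.surjective x
    letI : Algebra (X.presheaf.stalk (q y)) (Y.presheaf.stalk y) := (q.stalkMap y).hom.toAlgebra
    haveI : IsLocalHom (algebraMap (X.presheaf.stalk (q y)) (Y.presheaf.stalk y)) :=
      inferInstanceAs (IsLocalHom (q.stalkMap y).hom)
    haveI : Module.Flat (X.presheaf.stalk (q y)) (Y.presheaf.stalk y) := Flat.stalkMap q y
    haveI : Module.FaithfullyFlat (X.presheaf.stalk (q y)) (Y.presheaf.stalk y) :=
      Module.FaithfullyFlat.of_flat_of_isLocalHom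
    obtain ⟨e⟩ := exists_stalkEquiv q M y
    haveI : Module.IsTorsionFree (Y.presheaf.stalk y) ((St y).obj ((Scheme.Modules.pullback q).obj M)) := h.2.1 y
    have hrB : IsRegular (algebraMap (X.presheaf.stalk (q y)) (Y.presheaf.stalk y) r) := by
      have h1 : IsSMulRegular (Y.presheaf.stalk y) r := IsSMulRegular.of_flat hr.left
      exact (Commute.isRegular_iff (Commute.all _)).mpr fun a b hab => h1 (by
        simpa only [Algebra.smul_def] using hab)
    refine Module.FaithfullyFlat.tensorProduct_mk_injective (A := X.presheaf.stalk (q y))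
      (B := Y.presheaf.stalk y) ((St (q y)).obj M) (e.symm.injective ?_)
    refine (hrB.isSMulRegular (M := (St y).obj ((Scheme.Modules.pullback q).obj M))) ?_
    show algebraMap (X.presheaf.stalk (q y)) (Y.presheaf.stalk y) r • e.symm ((1 : Y.presheaf.stalk y) ⊗ₜ v) =
      algebraMap (X.presheaf.stalk (q y)) (Y.presheaf.stalk y) r • e.symm ((1 : Y.presheaf.stalk y) ⊗ₜ w)
    rw [← map_smul, ← map_smul]
    refine congrArg e.symm ?_
    show algebraMap (X.presheaf.stalk (q y)) (Y.presheaf.stalk y) r • ((1 : Y.presheaf.stalk y) ⊗ₜ v) =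
      algebraMap (X.presheaf.stalk (q y)) (Y.presheaf.stalk y) r • ((1 : Y.presheaf.stalk y) ⊗ₜ w)
    exact ((TFQuotLib.one_tmul_smul (B := Y.presheaf.stalk y) (M := (St (q y)).obj M) r v).symm.trans
      (congrArg _ hvw)).trans (TFQuotLib.one_tmul_smul (B := Y.presheaf.stalk y) (M := (St (q y)).obj M) r w)
  · obtain ⟨y, hy, rfl⟩ := exists_generic_over q hη
    letI : Algebra (X.presheaf.stalk (q y)) (Y.presheaf.stalk y) := (q.stalkMap y).hom.toAlgebra
    letI := (TFQuotLib.isField_stalk_generic hη).toField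
    obtain ⟨e⟩ := exists_stalkEquiv q M y
    obtain ⟨ε⟩ := h.2.2 y hy
    have h1 := (e.symm.trans (show (St y).obj ((Scheme.Modules.pullback q).obj M) ≃ₗ[Y.presheaf.stalk y]
      Y.presheaf.stalk y from ε)).finrank_eq
    rw [Module.finrank_baseChange, Module.finrank_self] at h1
    haveI := DevissLib.isNoetherian_stalk hM (q y)
    haveI : Module.Finite (X.presheaf.stalk (q y)) ((St (q y)).obj M) := Module.IsNoetherian.finite _ _
    let b := Module.basisUnique Unit h1
    exact ⟨b.equivFun.trans (LinearEquiv.funUnique Unit (X.presheaf.stalk (q y)) (X.presheaf.stalk (q y)))⟩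

end TFExtLib

end
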