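import Groth.Agent.TFExtLib.Limit
import Groth.Agent.MiscFlat6.QuasiFlat
import Groth.Agent.S4357
import Groth.Agent.CurvLib.StalkSum
import Groth.Agent.KFlatLib.PullTensor

/-!
# Maps seen on the special fibre
-/

set_option autoImplicit false
set_option linter.style.haveILetI false
set_option linter.unusedSectionVars false

universe u

open CategoryTheory CategoryTheory.Limits AlgebraicGeometry TopologicalSpace Opposite
open DevissLib IntMultLib TFQuotLib TFModLib

noncomputable section

namespace TFExtLib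

theorem isFlatOver_tensor_locFree {P T : Scheme.{u}} (f : P ⟶ T) {A E : P.Modules} {r : ℕ}
    (hA : FlatMod.IsFlatOver f A) (hE : FlatMod.IsFinLocFreeOfRank r E) :
    FlatMod.IsFlatOver f (CohB1.tensorMod A E) := fun x => by
  obtain ⟨e⟩ := CurvLib.nonempty_stalk_tensor_locFree hE A x
  letI := FlatMod.moduleStalkOver f A x
  letI := FlatMod.moduleStalkOver f (CohB1.tensorMod A E) x
  haveI : Module.Flat (T.presheaf.stalk (f x)) (A.presheaf.stalk x) := hA x
  haveI : Module.Flat (T.presheaf.stalk (f x)) (Fin r → A.presheaf.stalk x) :=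
    Module.Flat.of_linearEquiv (M := Π₀ _ : Fin r, A.presheaf.stalk x) DFinsupp.linearEquivFunOnFintype.symm
  let e' : (CohB1.tensorMod A E).presheaf.stalk x ≃ₗ[T.presheaf.stalk (f x)] (Fin r → A.presheaf.stalk x) :=
    { toFun := e, invFun := e.symm, left_inv := e.left_inv, right_inv := e.right_inv
      map_add' := e.map_add, map_smul' := fun c v => e.map_smul ((f.stalkMap x).hom c) v }
  exact Module.Flat.of_linearEquiv e'

section Special

variable {R : Type u} [CommRing R] [IsDomain R] [IsDiscreteValuationRing R]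
  {X : Scheme.{u}} (f : X ⟶ Spec (CommRingCat.of R)) [IsProper f] {Xs : Scheme.{u}} (i : Xs ⟶ X)
  {g : Xs ⟶ Spec (CommRingCat.of (IsLocalRing.ResidueField R))}
  (hsq : IsPullback i g f (Spec.map (CommRingCat.ofHom (IsLocalRing.residue R))))

include hsq in
/-- A closed set avoiding the special fibre is empty. -/
theorem eq_empty_of_avoid {T : Set X} (hT : IsClosed T) (h : ∀ z, i z ∉ T) : T = ∅ := by
  refine Set.eq_empty_iff_forall_notMem.mpr fun x hx => ?_
  haveI : IsLocalHom (CommRingCat.ofHom (IsLocalRing.residue R)).hom :=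
    inferInstanceAs (IsLocalHom (IsLocalRing.residue R))
  obtain ⟨x', hx', he⟩ := (IsLocalRing.specializes_closedPoint (f x)).mem_closed (f.isClosedMap T hT)
    ⟨x, hx, rfl⟩
  obtain ⟨z, hz, -⟩ := Scheme.exists_preimage_of_isPullback hsq x'
    (IsLocalRing.closedPoint (IsLocalRing.ResidueField R)) (he.trans
      (Spec_closedPoint (f := CommRingCat.ofHom (IsLocalRing.residue R))).symm)
  exact h z (hz ▸ hx')

include hsq in
theorem eq_zero_of_res {K : X.Modules} (hK : Coh.IsCoh K) {ϖ : R} (hϖ : Irreducible ϖ) (z : Xs)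
    (h : ∀ v : (St (i z)).obj K, ∃ v', v = rho f ϖ (i z) • v') (v : (St (i z)).obj K) : v = 0 := by
  haveI := isClosedImmersion_of_isPullback f i g hsq
  haveI : IsLocallyNoetherian X := LocallyOfFiniteType.isLocallyNoetherian f
  let A := X.presheaf.stalk (i z)
  let ρ : A := rho f ϖ (i z)
  haveI := DevissLib.isNoetherian_stalk hK (i z)
  have hres : IsLocalRing.residue R ϖ = 0 :=
    Ideal.Quotient.eq_zero_iff_mem.mpr (hϖ.maximalIdeal_eq ▸ Ideal.mem_span_singleton_self ϖ)
  have hρ : ¬ IsUnit ρ := fun hu => by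
    have h2 := hu.map (i.stalkMap z).hom
    rw [show (i.stalkMap z).hom ρ = 0 from stalkMap_rho f i g hsq hres z] at h2
    exact not_isUnit_zero h2
  have hbot : (⊤ : Submodule A ((St (i z)).obj K)) = ⊥ := by
    refine Submodule.eq_bot_of_le_smul_of_le_jacobson_bot (Ideal.span {ρ}) ⊤ ?_ (fun v _ => ?_) ?_
    · exact IsNoetherian.noetherian _
    · obtain ⟨v', rfl⟩ := h v
      exact Submodule.smul_mem_smul (Ideal.mem_span_singleton_self ρ) trivial
    · rw [IsLocalRing.jacobson_eq_maximalIdeal ⊥ bot_ne_top, Ideal.span_singleton_le_iff_mem]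
      exact hρ
  exact (Submodule.mem_bot A).mp (hbot ▸ Submodule.mem_top (x := v))

include hsq in
/-- Nakayama for kernels into flat modules. -/
theorem stalk_kernel_eq_zero {M N : X.Modules} (hM : Coh.IsCoh M) (hN : Coh.IsQCoh N)
    (hNf : FlatMod.IsFlatOver f N) (φ : M ⟶ N) {ϖ : R} (hϖ : Irreducible ϖ) (z : Xs)
    (h : ∀ m, ((St z).map ((Scheme.Modules.pullback i).map φ)).hom m = 0 → m = 0)
    (v : (St (i z)).obj (kernel φ)) : v = 0 := by
  haveI := isClosedImmersion_of_isPullback f i g hsq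
  haveI : IsLocallyNoetherian X := LocallyOfFiniteType.isLocallyNoetherian f
  refine eq_zero_of_res f i hsq (QCohLib.isCoh_kernel φ hM hN) hϖ z (fun v => ?_) v
  have h1 : ((St (i z)).map φ).hom (((St (i z)).map (kernel.ι φ)).hom v) = 0 :=
    stalk_comp_zero _ _ (kernel.condition φ) (i z) v
  have h2 : res i M z (((St (i z)).map (kernel.ι φ)).hom v) = 0 := h _ (by rw [res_map, h1, res_zero])
  obtain ⟨m', hm'⟩ := (res_eq_zero_iff i M z (ker_stalkMap f i g hsq hϖ z) _).mp h2
  rw [hm', map_smul] at h1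
  obtain ⟨v', rfl⟩ := exists_of_kernel φ (i z)
    (smul_rho_injective f hNf hϖ.ne_zero (i z) (h1.trans (smul_zero _).symm))
  exact ⟨v', stalk_inj (kernel.ι φ) (i z) (hm'.trans (map_smul _ _ _).symm)⟩

include hsq in
/-- An isomorphism on the special fibre is one. -/
theorem isIso_of_special {M N : X.Modules} (hM : Coh.IsCoh M) (hN : Coh.IsCoh N)
    (hNf : FlatMod.IsFlatOver f N) (φ : M ⟶ N) [IsIso ((Scheme.Modules.pullback i).map φ)] : IsIso φ := by
  obtain ⟨ϖ, hϖ⟩ := IsDiscreteValuationRing.exists_irreducible R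
  haveI := isClosedImmersion_of_isPullback f i g hsq
  haveI : IsLocallyNoetherian X := LocallyOfFiniteType.isLocallyNoetherian f
  have hK : Coh.IsCoh (kernel φ) := QCohLib.isCoh_kernel φ hM hN.1
  haveI := hM.1
  haveI := hN.1
  have hC : Coh.IsCoh (cokernel φ) := QCohLib.isCoh_cokernel φ hM.1 hN
  haveI : Mono φ := Preadditive.mono_of_isZero_kernel φ (DevissLib.isZero_of_support_empty
    (eq_empty_of_avoid f i hsq (QCohLib.isClosed_support _ hK.2) fun z hz => by
      obtain ⟨v, hv⟩ := (mem_support_iff_nonzero _ _).mp hz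
      exact hv (stalk_kernel_eq_zero f i hsq hM hN.1 hNf φ hϖ z (fun m hm => by
        exact (ConcreteCategory.bijective_of_isIso ((St z).map ((Scheme.Modules.pullback i).map φ))).1
          (hm.trans (map_zero _).symm)) v)))
  haveI : Epi φ := Preadditive.epi_of_isZero_cokernel φ (DevissLib.isZero_of_support_empty
    (eq_empty_of_avoid f i hsq (QCohLib.isClosed_support _ hC.2) fun z hz => by
      obtain ⟨v, hv⟩ := (mem_support_iff_nonzero _ _).mp hz
      refine hv (eq_zero_of_res f i hsq hC hϖ z (fun c => ?_) v)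
      obtain ⟨u, rfl⟩ := stalk_surj (cokernel.π φ) (i z) c
      obtain ⟨m, hm⟩ := stalk_surj ((Scheme.Modules.pullback i).map φ) z (res i N z u)
      obtain ⟨w, rfl⟩ := res_surjective i M z m
      rw [res_map] at hm
      obtain ⟨m', hm'⟩ := (res_eq_zero_iff i N z (ker_stalkMap f i g hsq hϖ z)
        (u - ((St (i z)).map φ).hom w)).mp (by
          have h3 := res_add i N z (u - ((St (i z)).map φ).hom w) (((St (i z)).map φ).hom w)
          rw [sub_add_cancel, hm] at h3
          exact add_eq_right.mp h3.symm)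
      refine ⟨((St (i z)).map (cokernel.π φ)).hom m', ?_⟩
      rw [sub_eq_iff_eq_add.mp hm', map_add, (cokernel_eq_zero_iff φ (i z) _).mpr ⟨w, rfl⟩, add_zero, map_smul]))
  exact isIso_of_mono_of_epi φ

include hsq in
/-- A nonzero flat module lives on the generic fibre. -/
theorem exists_mem_support_generic {M : X.Modules} (hM : Coh.IsCoh M) (hMf : FlatMod.IsFlatOver f M) {x : X}
    (hx : x ∈ CohB1.support M) : ∃ η ∈ CohB1.support M, η ∉ Set.range ⇑i := by
  obtain ⟨ϖ, hϖ⟩ := IsDiscreteValuationRing.exists_irreducible R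
  haveI := isClosedImmersion_of_isPullback f i g hsq
  haveI : IsLocallyNoetherian X := LocallyOfFiniteType.isLocallyNoetherian f
  obtain ⟨η, hη⟩ := DevissLib.exists_asso hM hx
  refine ⟨η, hη.mem_support, ?_⟩
  rintro ⟨z, rfl⟩
  obtain ⟨a, ha, hk⟩ := hη
  have hρ : rho f ϖ (i z) ∈ IsLocalRing.maximalIdeal (X.presheaf.stalk (i z)) := fun hu => by
    have h2 := hu.map (i.stalkMap z).hom
    rw [show (i.stalkMap z).hom (rho f ϖ (i z)) = 0 from stalkMap_rho f i g hsq
      (Ideal.Quotient.eq_zero_iff_mem.mpr (hϖ.maximalIdeal_eq ▸ Ideal.mem_span_singleton_self ϖ)) z] at h2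
    exact not_isUnit_zero h2
  exact ha (smul_rho_injective f hMf hϖ.ne_zero (i z) ((hk _ hρ).trans (smul_zero _).symm))

end Special

end TFExtLib

end
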