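import Groth.Agent.TFExtLib.Iso
import Groth.Agent.TFExtLib.Geom
import Groth.Agent.TFExtLib.Special
import Groth.Agent.HilbSCLib.FibreBC
import Groth.Agent.SeesawLib.Ranks

/-!
# Geometric closed fibres
-/

set_option autoImplicit false
set_option linter.style.haveILetI false
set_option linter.unusedSectionVars false

universe u

open CategoryTheory CategoryTheory.Limits AlgebraicGeometry TopologicalSpace Opposite
open DevissLib IntMultLib TFQuotLib TFModLib

noncomputable section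

namespace TFExtLib

theorem flat_surj {k : Type u} [Field k] {Ω : Type u} [Field Ω] {Y Z : Scheme.{u}} (q : Y ⟶ Z)
    {sY : Y ⟶ Spec (CommRingCat.of Ω)} {sZ : Z ⟶ Spec (CommRingCat.of k)}
    {ω : Spec (CommRingCat.of Ω) ⟶ Spec (CommRingCat.of k)} (H : IsPullback q sY sZ ω) : Flat q ∧ Surjective q := by
  haveI : Subsingleton ↥(Spec (CommRingCat.of k)) := inferInstanceAs (Subsingleton (PrimeSpectrum k))
  haveI : Flat ω := by
    obtain ⟨ψ, rfl⟩ := Spec.map_surjective ω
    letI := ψ.hom.toAlgebra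
    exact (HasRingHomProperty.Spec_iff (P := @Flat)).mpr (show (algebraMap k Ω).Flat from
      RingHom.flat_algebraMap_iff.mpr inferInstance)
  haveI : Surjective ω := ⟨fun z => ⟨IsLocalRing.closedPoint Ω, Subsingleton.elim _ _⟩⟩
  exact ⟨MorphismProperty.of_isPullback H.flip ‹_›, MorphismProperty.of_isPullback H.flip ‹_›⟩

variable {k : Type u} [Field k] {Z : Scheme.{u}} [Z.Over (Spec (CommRingCat.of k))]
  [IsProper (Z ↘ Spec (CommRingCat.of k))] [AlgebraicGeometry.IsNoetherian Z] [IsReduced Z] [DecidableEq Z]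
  {Ω : Type u} [Field Ω] {Y : Scheme.{u}} [Y.Over (Spec (CommRingCat.of Ω))]
  [IsProper (Y ↘ Spec (CommRingCat.of Ω))] [AlgebraicGeometry.IsNoetherian Y] [IsReduced Y] [DecidableEq Y]
  (q : Y ⟶ Z) {ω : Spec (CommRingCat.of Ω) ⟶ Spec (CommRingCat.of k)}
  (H : IsPullback q (Y ↘ Spec (CommRingCat.of Ω)) (Z ↘ Spec (CommRingCat.of k)) ω)
  (hgi : ∀ (C : Set Z) (hC : C ∈ irreducibleComponents (Z : Type u)), GeometricallyIntegral
    (VecSt.subschι Z C (isClosed_of_mem_irreducibleComponents C hC) ≫ (Z ↘ Spec (CommRingCat.of k))))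

/-- The generic points over a set of generic points. -/
def pre (S : Finset Z) : Finset Y := (gens Y).filter fun η => q η ∈ S

theorem pre_subset (S : Finset Z) : pre q S ⊆ gens Y := Finset.filter_subset _ _

theorem mem_pre {S : Finset Z} {η : Y} : η ∈ pre q S ↔ η ∈ gens Y ∧ q η ∈ S := Finset.mem_filter

include H in
theorem map_gens {η : Y} (hη : η ∈ gens Y) : q η ∈ gens Z :=
  haveI := (flat_surj q H).1
  mem_gens.mpr (mem_generic_map q (mem_gens.mp hη))

include H in
theorem pre_sdiff (S : Finset Z) : pre q (gens Z \ S) = gens Y \ pre q S := by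
  ext η
  simp only [mem_pre, Finset.mem_sdiff, not_and]
  exact ⟨fun h => ⟨h.1, fun _ => h.2.2⟩, fun h => ⟨h.1, map_gens q H h.1, h.2 h.1⟩⟩

include H hgi in
theorem pre_image {T : Finset Y} (hT : T ⊆ gens Y) : pre q (T.image q) = T := by
  haveI := (flat_surj q H).1
  ext η
  rw [mem_pre, Finset.mem_image]
  refine ⟨fun ⟨hη, η', hη', he⟩ => ?_, fun h => ⟨hT h, η, h, rfl⟩⟩
  exact injective_generic q H hgi (mem_gens.mp (hT hη')) (mem_gens.mp hη) he ▸ hη'

include H in
theorem image_subset {T : Finset Y} (hT : T ⊆ gens Y) : T.image q ⊆ gens Z := fun z hz => by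
  obtain ⟨η, hη, rfl⟩ := Finset.mem_image.mp hz
  exact map_gens q H (hT hη)

include H in
theorem pre_ne {S : Finset Z} (hS : S ⊆ gens Z) (hne : S ≠ gens Z) : pre q S ≠ gens Y := fun h => by
  haveI := (flat_surj q H).2
  refine hne (Finset.Subset.antisymm hS fun z hz => ?_)
  obtain ⟨η, hη, rfl⟩ := exists_generic_over q (mem_gens.mp hz)
  exact (mem_pre q).mp (h.ge (mem_gens.mpr hη)) |>.2

variable {M : Z.Modules} (hM : TFOne.IsTF1 Z M)

include H hM in
theorem isQuotOn_pre {S : Finset Z} (hS : S ⊆ gens Z) {G : Z.Modules} {π : M ⟶ G}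
    (hG : TFOne.IsQuotOn Z M (cl S) G π) :
    TFOne.IsQuotOn Y ((Scheme.Modules.pullback q).obj M) (cl (pre q S)) ((Scheme.Modules.pullback q).obj G)
      ((Scheme.Modules.pullback q).map π) := by
  haveI := (flat_surj q H).1
  haveI := hG.1
  haveI := hG.2.1.1
  haveI := epi_pullback q π
  refine isQuotOn_of _ (ConsLib.isCoh_pullback q hG.2.1) (torsionFree_pullback q hG.2.1 hG.2.2.1)
    (gdense_cl (pre_subset q S)) fun η hη => ?_
  rw [Groth.Agent.S4357.result q G hG.2.1.2, Set.mem_preimage, hG.2.2.2,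
    mem_cl hS (mem_gens.mp (map_gens q H (mem_gens.mpr hη))), mem_cl (pre_subset q S) hη, mem_pre]
  exact (and_iff_right (mem_gens.mpr hη)).symm

include H in
theorem euler_field_bc {N : Z.Modules} (hN : Coh.IsCoh N) :
    Curv2.euler Ω Y ((Scheme.Modules.pullback q).obj N) = Curv2.euler k Z N := by
  let s := Z ↘ Spec (CommRingCat.of k)
  haveI : LocallyOfFinitePresentation s := LocallyOfFinitePresentation.iff_locallyOfFiniteType.2 inferInstance
  haveI : Subsingleton ↥(Spec (CommRingCat.of k)) := inferInstanceAs (Subsingleton (PrimeSpectrum k))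
  have hfp := QCohLib.isFP_of_isCoh N hN
  have hfl := HilbSCLib.isFlatOver_spec_field s N
  have h1 := CohCmpLib.euler_bc hfp hfl H (IsLocalRing.closedPoint Ω)
  have h2 := CohCmpLib.euler_bc hfp hfl (IsPullback.of_horiz_isIso (fst := 𝟙 Z) (snd := s)
    (f := s) (g := 𝟙 (Spec (CommRingCat.of k))) ⟨by simp⟩) (IsLocalRing.closedPoint k)
  refine h1.trans (Eq.trans ?_ (CurvLib.euler_congr ((Scheme.Modules.pullbackId _).app N)))
  exact ((congrArg (PerfAux.eulerChar s N) (Subsingleton.elim _ _)).trans h2.symm)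

variable {E : Z.Modules} {r : ℕ} (hE : FlatMod.IsFinLocFreeOfRank r E)

include H hE in
theorem euler_tensor_bc {G : Z.Modules} (hG : Coh.IsCoh G) :
    Curv2.euler Ω Y (CohB1.tensorMod ((Scheme.Modules.pullback q).obj G) ((Scheme.Modules.pullback q).obj E)) =
      Curv2.euler k Z (CohB1.tensorMod G E) := by
  rw [← euler_field_bc q H (IntMultLib.isCoh_tensor_locFree hE hG)]
  exact (CurvLib.euler_congr (@asIso _ _ _ _ (KFlatLib.pullθ q G E) (KFlatLib.isIso_pullθ _ _ _))).symm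

variable (hdY : topologicalKrullDim Y ≤ 1)

include H hgi hM hE hdY in
theorem fibre_beta {T : Finset Y} (hT : T ⊆ gens Y) {G' : Y.Modules} {π' : (Scheme.Modules.pullback q).obj M ⟶ G'}
    (hG' : TFOne.IsQuotOn Y ((Scheme.Modules.pullback q).obj M) (cl T) G' π') :
    ∃ (G : Z.Modules) (π : M ⟶ G), TFOne.IsQuotOn Z M (cl (T.image q)) G π ∧
      TFOne.rBeta Y Ω (Y ↘ Spec (CommRingCat.of Ω)) (cl T) (isClosed_cl T)
        ((Scheme.Modules.pullback q).obj E) r G' = Curv2.euler k Z (CohB1.tensorMod G E) := by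
  haveI := (flat_surj q H).1
  obtain ⟨G, π, hG⟩ := exists_quot hM (gdense_cl (image_subset q H hT))
  have hM' := isTF1_pullback q hM
  have h1 := isQuotOn_pre q H hM (image_subset q H hT) hG
  rw [pre_image q H hgi hT] at h1
  refine ⟨G, π, hG, ?_⟩
  rw [rBeta_eq (k := Ω) hdY (SeesawLib.isFinLocFreeOfRank_pullback q hE) hM' (isClosed_cl T) hG',
    ← euler_tensor_bc q H hE hG.2.1]
  exact CurvLib.euler_congr (HilbPolyLib.congrLeft (iso_of_quot hM' hG' h1).choose _)

include H hgi hM hE hdY in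
theorem fibre_semistable (hss : ∀ S, S ⊆ gens Z → ∀ (G : Z.Modules) (π : M ⟶ G),
      TFOne.IsQuotOn Z M (cl S) G π → 0 ≤ Curv2.euler k Z (CohB1.tensorMod G E)) :
    TFOne.IsSemistable Y Ω (Y ↘ Spec (CommRingCat.of Ω)) ((Scheme.Modules.pullback q).obj M)
      ((Scheme.Modules.pullback q).obj E) r := by
  haveI := (flat_surj q H).1
  refine ⟨isTF1_pullback q hM, fun W hW hsc _ G' π' hG' => ?_⟩
  obtain ⟨T, hT, rfl⟩ : ∃ T ⊆ gens Y, cl T = W :=
    ⟨gensIn W, gensIn_subset W, cl_gensIn (gdense_subcurve hsc hW)⟩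
  obtain ⟨G, π, hG, e⟩ := fibre_beta q H hgi hM hE hdY hT hG'
  rw [e]
  exact hss _ (image_subset q H hT) G π hG

include H hgi hM hE hdY in
theorem fibre_quasistable (hss : ∀ S, S ⊆ gens Z → ∀ (G : Z.Modules) (π : M ⟶ G),
      TFOne.IsQuotOn Z M (cl S) G π → 0 ≤ Curv2.euler k Z (CohB1.tensorMod G E))
    {w : Z} (hqs : ∀ S, S ⊆ gens Z → S ≠ gens Z → w ∈ S → ∀ (G : Z.Modules) (π : M ⟶ G),
      TFOne.IsQuotOn Z M (cl S) G π → 0 < Curv2.euler k Z (CohB1.tensorMod G E))
    {y : Y} (hy : ∀ η ∈ gens Z, η ⤳ q y → η = w) :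
    TFOne.IsQuasistableAtPt Y Ω (Y ↘ Spec (CommRingCat.of Ω)) ((Scheme.Modules.pullback q).obj M)
      ((Scheme.Modules.pullback q).obj E) r y := by
  haveI := (flat_surj q H).1
  refine ⟨fibre_semistable q H hgi hM hE hdY hss, fun W hW hsc hne hyW G' π' hG' => ?_⟩
  obtain ⟨T, hT, rfl⟩ : ∃ T ⊆ gens Y, cl T = W :=
    ⟨gensIn W, gensIn_subset W, cl_gensIn (gdense_subcurve hsc hW)⟩
  obtain ⟨G, π, hG, e⟩ := fibre_beta q H hgi hM hE hdY hT hG'
  rw [e]
  refine hqs _ (image_subset q H hT) (fun h => hne ((cl_eq_univ_iff hT).mpr ?_)) ?_ G π hG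
  · rw [← pre_image q H hgi hT, h]
    exact Finset.Subset.antisymm (pre_subset q _) fun η hη => (mem_pre q).mpr ⟨hη, map_gens q H hη⟩
  · obtain ⟨η, hη, hηy⟩ := Set.mem_iUnion₂.mp hyW
    exact Finset.mem_image.mpr ⟨η, hη,
      hy _ (map_gens q H (hT hη)) ((specializes_iff_mem_closure.mpr hηy).map q.continuous)⟩

include H hgi hM hdY in
theorem fibre_simple [IsAlgClosed Ω] [Nonempty Z] (hd : topologicalKrullDim Z ≤ 1)
    (hdec : ∀ S, S ⊆ gens Z → S.Nonempty → S ≠ gens Z → chi k M S + chi k M (gens Z \ S) ≠ chi k M (gens Z)) :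
    TFOne.IsSimple Y Ω (Y ↘ Spec (CommRingCat.of Ω)) ((Scheme.Modules.pullback q).obj M) := by
  haveI := (flat_surj q H).1
  haveI := (flat_surj q H).2
  haveI : Nonempty Y := ⟨(q.surjective (Classical.arbitrary Z)).choose⟩
  have hM' := isTF1_pullback q hM
  refine isSimple_of_indecomposable hM' fun T hT hne hne' G1 G2 π1 π2 h1 h2 hiso => ?_
  let S := T.image q
  have hS : S ⊆ gens Z := image_subset q H hT
  have hTS : pre q S = T := pre_image q H hgi hT
  obtain ⟨A, a, hA, eA⟩ := exists_quot_cl (k := k) hM hS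
  obtain ⟨B, b, hB, eB⟩ := exists_quot_cl (k := k) hM (Finset.sdiff_subset (s := gens Z) (t := S))
  have hA' := isQuotOn_pre q H hM hS hA
  have hB' := isQuotOn_pre q H hM Finset.sdiff_subset hB
  rw [hTS] at hA'
  rw [pre_sdiff q H, hTS] at hB'
  refine hdec S hS (hne.image _) (fun h => hne' ?_) ?_
  · rw [← hTS, h]
    exact Finset.Subset.antisymm (pre_subset q _) fun η hη => (mem_pre q).mpr ⟨hη, map_gens q H hη⟩
  · rw [eA, eB, chi_gens hM, ← euler_field_bc q H hA.2.1, ← euler_field_bc q H hB.2.1,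
      ← euler_field_bc q H hM.1, ← CurvLib.euler_congr (iso_of_quot hM' h1 hA').choose,
      ← CurvLib.euler_congr (iso_of_quot hM' h2 hB').choose]
    refine ((isIso_lift_iff (k := Ω) hdY hM' (fun η hη => ?_) h1 h2).mp hiso).symm
    rw [mem_cl Finset.sdiff_subset hη, mem_cl hT hη, Finset.mem_sdiff]
    exact and_iff_right (mem_gens.mpr hη)

end TFExtLib

end
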