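import Groth.Agent.S0549
import Groth.Agent.TFModLib.Res
import Mathlib.RingTheory.AdicCompletion.LocalRing

/-!
# A complete extension of a discrete valuation ring and the base change to it
-/

set_option autoImplicit false
set_option linter.style.haveILetI false
set_option linter.unusedSectionVars false

universe u

open CategoryTheory CategoryTheory.Limits AlgebraicGeometry

noncomputable section

namespace TFExtLib

/-- A complete discrete valuation ring unramified over `R` with the same residue field. -/
structure Completed (R : Type u) [CommRing R] [IsDomain R] [IsDiscreteValuationRing R] where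
  /-- the ring -/
  R' : Type u
  [ring : CommRing R']
  [dom : IsDomain R']
  [dvr : IsDiscreteValuationRing R']
  [compl : IsAdicComplete (IsLocalRing.maximalIdeal R') R']
  /-- the map -/
  φ : R →+* R'
  flat : φ.Flat
  inj : Function.Injective φ
  irred : ∀ {ϖ : R}, Irreducible ϖ → Irreducible (φ ϖ)
  /-- the reduction -/
  ψ : R' →+* IsLocalRing.ResidueField R
  ψ_surj : Function.Surjective ψ
  ψ_φ : ψ.comp φ = IsLocalRing.residue R

attribute [instance] Completed.ring Completed.dom Completed.dvr Completed.compl

theorem nonempty_completed (R : Type u) [CommRing R] [IsDomain R] [IsDiscreteValuationRing R] :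
    Nonempty (Completed R) := by
  let m := IsLocalRing.maximalIdeal R
  let B := AdicCompletion m R
  obtain ⟨hd, hB⟩ := (Groth.Agent.S0549.result R).mp ⟨inferInstance, inferInstance⟩
  haveI := hd
  haveI := hB
  haveI : Module.Flat R B := AdicCompletion.flat_of_isNoetherian m
  haveI : IsLocalHom (algebraMap R B) := inferInstance
  haveI : Module.FaithfullyFlat R B := Module.FaithfullyFlat.of_flat_of_isLocalHom
  have hb := AdicCompletion.residueField_map_bijective_of_fg (R := R) m.fg_of_isNoetherianRing
  let e := RingEquiv.ofBijective (IsLocalRing.ResidueField.map (algebraMap R B)) hb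
  refine ⟨{ R' := B, φ := algebraMap R B, flat := RingHom.flat_algebraMap_iff.mpr inferInstance,
            inj := FaithfulSMul.algebraMap_injective R B, irred := fun {ϖ} h => ?_,
            ψ := e.symm.toRingHom.comp (IsLocalRing.residue B),
            ψ_surj := e.symm.surjective.comp IsLocalRing.residue_surjective, ψ_φ := ?_ }⟩
  · obtain ⟨π, hπ⟩ := IsDiscreteValuationRing.exists_irreducible B
    have h1 : Ideal.span {algebraMap R B ϖ} = Ideal.span {π} := by
      rw [← hπ.maximalIdeal_eq]
      refine Eq.trans ?_ (AdicCompletion.maximalIdeal_eq_map (R := R)).symm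
      exact ((congrArg (Ideal.map (algebraMap R B)) h.maximalIdeal_eq).trans
        (by rw [Ideal.map_span, Set.image_singleton])).symm
    exact (Ideal.span_singleton_eq_span_singleton.mp h1).symm.irreducible hπ
  · refine RingHom.ext fun x => e.injective ?_
    show e (e.symm (IsLocalRing.residue B (algebraMap R B x))) = e (IsLocalRing.residue R x)
    rw [RingEquiv.apply_symm_apply]
    rfl

variable {R : Type u} [CommRing R] [IsDomain R] [IsDiscreteValuationRing R] (C : Completed R)

theorem flat_specMap : Flat (Spec.map (CommRingCat.ofHom C.φ)) :=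
  (HasRingHomProperty.Spec_iff (P := @Flat)).mpr C.flat

theorem specMap_ψ : Spec.map (CommRingCat.ofHom C.ψ) ≫ Spec.map (CommRingCat.ofHom C.φ) =
    Spec.map (CommRingCat.ofHom (IsLocalRing.residue R)) := by
  rw [← Spec.map_comp, ← CommRingCat.ofHom_comp, C.ψ_φ]

variable {X : Scheme.{u}} (f : X ⟶ Spec (CommRingCat.of R)) {Xs : Scheme.{u}}
  [Xs.Over (Spec (CommRingCat.of (IsLocalRing.ResidueField R)))] (i : Xs ⟶ X)
  (hsq : IsPullback i (Xs ↘ Spec (CommRingCat.of (IsLocalRing.ResidueField R))) f
    (Spec.map (CommRingCat.ofHom (IsLocalRing.residue R))))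

/-- The base change. -/
abbrev X' : Scheme.{u} := pullback f (Spec.map (CommRingCat.ofHom C.φ))

/-- Its projection. -/
abbrev g : X' C f ⟶ X := pullback.fst f (Spec.map (CommRingCat.ofHom C.φ))

/-- Its structure morphism. -/
abbrev f' : X' C f ⟶ Spec (CommRingCat.of C.R') := pullback.snd f (Spec.map (CommRingCat.ofHom C.φ))

/-- The special fibre inside it. -/
def i' : Xs ⟶ X' C f :=
  pullback.lift i ((Xs ↘ Spec (CommRingCat.of (IsLocalRing.ResidueField R))) ≫ Spec.map (CommRingCat.ofHom C.ψ))
    (by rw [Category.assoc, specMap_ψ]; exact hsq.w)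

theorem i'_g : i' C f i hsq ≫ g C f = i := pullback.lift_fst _ _ _

theorem isPullback_i' :
    IsPullback (i' C f i hsq) (Xs ↘ Spec (CommRingCat.of (IsLocalRing.ResidueField R))) (f' C f)
      (Spec.map (CommRingCat.ofHom C.ψ)) := by
  refine IsPullback.of_right ?_ (pullback.lift_snd _ _ _) (IsPullback.of_hasPullback f _)
  rw [show i' C f i hsq ≫ pullback.fst f _ = i from i'_g C f i hsq, specMap_ψ]
  exact hsq

theorem isClosedImmersion_i' : IsClosedImmersion (i' C f i hsq) :=
  haveI : IsClosedImmersion (Spec.map (CommRingCat.ofHom C.ψ)) :=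
    IsClosedImmersion.spec_of_surjective _ C.ψ_surj
  MorphismProperty.of_isPullback (isPullback_i' C f i hsq).flip ‹_›

theorem ker_ψ : RingHom.ker C.ψ = IsLocalRing.maximalIdeal C.R' :=
  IsLocalRing.eq_maximalIdeal (RingHom.ker_isMaximal_of_surjective _ C.ψ_surj)

theorem exists_residue_square :
    ∃ g' : Xs ⟶ Spec (CommRingCat.of (IsLocalRing.ResidueField C.R')),
      IsPullback (i' C f i hsq) g' (f' C f) (Spec.map (CommRingCat.ofHom (IsLocalRing.residue C.R'))) := by
  let e : IsLocalRing.ResidueField C.R' ≃+* IsLocalRing.ResidueField R :=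
    (Ideal.quotEquivOfEq (ker_ψ C).symm).trans (RingHom.quotientKerEquivOfSurjective C.ψ_surj)
  let ε : Spec (CommRingCat.of (IsLocalRing.ResidueField R)) ≅ Spec (CommRingCat.of (IsLocalRing.ResidueField C.R')) :=
    Scheme.Spec.mapIso e.toCommRingCatIso.op
  refine ⟨(Xs ↘ Spec (CommRingCat.of (IsLocalRing.ResidueField R))) ≫ ε.hom, ?_⟩
  refine (isPullback_i' C f i hsq).of_iso (Iso.refl _) (Iso.refl _) ε (Iso.refl _) ?_ ?_ ?_ ?_
  · simp
  · simp
  · simp
  · rw [Iso.refl_hom, Category.comp_id]
    change Spec.map (CommRingCat.ofHom C.ψ) = Spec.map e.toCommRingCatIso.hom ≫ _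
    rw [← Spec.map_comp]
    rfl

end TFExtLib

end
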