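import Groth.Agent.TFExtLib.Lattice
import Groth.Agent.TFModLib.Flat

/-!
# Admissible extensions and their modifications
-/

set_option autoImplicit false
set_option linter.style.haveILetI false
set_option linter.unusedSectionVars false

universe u

open CategoryTheory CategoryTheory.Limits AlgebraicGeometry TopologicalSpace Opposite
open DevissLib IntMultLib TFQuotLib TFModLib

noncomputable section

namespace TFExtLib

variable {R : Type u} [CommRing R] [IsDomain R] [IsDiscreteValuationRing R]
  {X : Scheme.{u}} (f : X ⟶ Spec (CommRingCat.of R)) [IsProper f] {Xs : Scheme.{u}} (i : Xs ⟶ X)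

/-- Coherent, flat, torsion free of rank one on the special fibre. -/
structure Adm (I : X.Modules) : Prop where
  coh : Coh.IsCoh I
  flat : FlatMod.IsFlatOver f I
  tf1 : TFOne.IsTF1 Xs ((Scheme.Modules.pullback i).obj I)

variable [AlgebraicGeometry.IsNoetherian Xs] [IsReduced Xs]

/-- `I'` is the modification of `I` along `S`. -/
def Step (S : Finset Xs) (I I' : X.Modules) : Prop :=
  ∃ (G : Xs.Modules) (π : (Scheme.Modules.pullback i).obj I ⟶ G),
    TFOne.IsQuotOn Xs ((Scheme.Modules.pullback i).obj I) (cl S) G π ∧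
      I' = kernel ((Scheme.Modules.pullbackPushforwardAdjunction i).unit.app I ≫
        (Scheme.Modules.pushforward i).map π)

variable [Xs.Over (Spec (CommRingCat.of (IsLocalRing.ResidueField R)))]
  [IsProper (Xs ↘ Spec (CommRingCat.of (IsLocalRing.ResidueField R)))]
  (hsq : IsPullback i (Xs ↘ Spec (CommRingCat.of (IsLocalRing.ResidueField R))) f
    (Spec.map (CommRingCat.ofHom (IsLocalRing.residue R))))

omit [Xs.Over (Spec (CommRingCat.of (IsLocalRing.ResidueField R)))]
  [IsProper (Xs ↘ Spec (CommRingCat.of (IsLocalRing.ResidueField R)))] in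
theorem exists_step {I : X.Modules} (hI : Adm f i I) {S : Finset Xs} (hS : S ⊆ gens Xs) :
    ∃ I', Step i S I I' := by
  obtain ⟨G, π, h⟩ := exists_quot hI.tf1 (gdense_cl hS)
  exact ⟨_, G, π, h, rfl⟩

variable {I I' : X.Modules} {S : Finset Xs}

include hsq in
theorem Step.adm (hI : Adm f i I) (h : Step i S I I') :
    Adm f i I' ∧ Curv2.euler (IsLocalRing.ResidueField R) Xs ((Scheme.Modules.pullback i).obj I') =
      Curv2.euler (IsLocalRing.ResidueField R) Xs ((Scheme.Modules.pullback i).obj I) := by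
  obtain ⟨G, π, hG, rfl⟩ := h
  haveI := hG.1
  haveI := hI.coh.1
  haveI : IsLocallyNoetherian X := LocallyOfFiniteType.isLocallyNoetherian f
  haveI := isClosedImmersion_of_isPullback f i _ hsq
  obtain ⟨ϖ, hϖ⟩ := IsDiscreteValuationRing.exists_irreducible R
  obtain ⟨j, t, a, b, ha, hab, hbπ, hex, hran, hcoh, hj, -⟩ :=
    exists_extension' f i _ hϖ hsq hI.coh hI.flat hG.2.1 π rfl
  have hm : IsModif π a b := ⟨ha, hab, hbπ, hex, hran, hcoh⟩
  refine ⟨⟨QCohLib.isCoh_kernel _ hI.coh (QCohLib.isCoh_push_finite i G hG.2.1).1,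
    isFlatOver_of_injective f hϖ fun x v w hvw => ?_, hm.isTF1 hI.tf1 hG⟩, hm.euler_eq hI.tf1 hG⟩
  refine stalk_inj j x (smul_rho_injective f hI.flat hϖ.ne_zero x ?_)
  exact ((map_smul _ _ _).symm.trans (congrArg ((St x).map j).hom hvw)).trans (map_smul _ _ _)

variable (hd : topologicalKrullDim Xs ≤ 1) [DecidableEq Xs]

include hsq hd in
theorem Step.compare (hI : Adm f i I) (hS : S ⊆ gens Xs) (h : Step i S I I') {T : Finset Xs} (hT : T ⊆ gens Xs) :
    chi (IsLocalRing.ResidueField R) ((Scheme.Modules.pullback i).obj I) (S ∩ T) +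
        chi (IsLocalRing.ResidueField R) ((Scheme.Modules.pullback i).obj I) (S ∪ T) ≤
      chi (IsLocalRing.ResidueField R) ((Scheme.Modules.pullback i).obj I') T +
        chi (IsLocalRing.ResidueField R) ((Scheme.Modules.pullback i).obj I) S := by
  obtain ⟨G, π, hG, hI'⟩ := h
  obtain ⟨-, a, b, hm⟩ := exists_isModif f i hsq hI.coh hI.flat hG hI'
  exact chi_compare hI.tf1 hd hS hT hG hm

include hsq hd in
/-- The value on the complement after a modification. -/
theorem Step.chi_compl (hI : Adm f i I) (hS : S ⊆ gens Xs) (h : Step i S I I') :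
    chi (IsLocalRing.ResidueField R) ((Scheme.Modules.pullback i).obj I') (gens Xs \ S) =
      Curv2.euler (IsLocalRing.ResidueField R) Xs ((Scheme.Modules.pullback i).obj I) -
        chi (IsLocalRing.ResidueField R) ((Scheme.Modules.pullback i).obj I) S := by
  obtain ⟨G, π, hG, hI'⟩ := h
  obtain ⟨-, a, b, hm⟩ := exists_isModif f i hsq hI.coh hI.flat hG hI'
  have hN := hm.isTF1 hI.tf1 hG
  have hT : gens Xs \ S ⊆ gens Xs := Finset.sdiff_subset
  obtain ⟨G2, π2, hG2, e2⟩ := exists_quot_cl (k := IsLocalRing.ResidueField R) hN hT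
  obtain ⟨GE, πE, hGE⟩ := exists_quot hI.tf1 (T := (∅ : Set Xs)) ⟨isClosed_empty, fun x hx => hx.elim⟩
  obtain ⟨GM, πM, hGM⟩ := exists_quot hI.tf1 gdense_univ
  have hm' : ∀ η ∈ genericPoints (Xs : Type u), η ∈ cl (gens Xs \ S) ↔ η ∉ cl S := fun η hη => by
    rw [mem_cl hT hη, mem_cl hS hη, Finset.mem_sdiff]
    exact and_iff_right (mem_gens.mpr hη)
  have hcov : cl S ∪ cl (gens Xs \ S) = Set.univ := Set.univ_subset_iff.mp (gdense_univ.subset_iff
    ((isClosed_cl S).union (isClosed_cl _)) fun η hη _ => (em (η ∈ cl S)).imp id (hm' η hη).mpr)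
  have c := (hm.compare (V := cl (gens Xs \ S)) hI.tf1 hG (k := IsLocalRing.ResidueField R) hd
    (Set.empty_subset (cl S)) (Z := cl (gens Xs \ S))
    (fun η hη => iff_of_false (Set.notMem_empty η) fun h' => (hm' η hη).mp h'.2 h'.1) hG2 hGE
    (hcov.symm ▸ hGM)).2.2 (gdense_cl hT) (fun η hη => ⟨fun h' => ⟨h', (hm' η hη).mp h'⟩, fun h' => h'.1⟩) hG2
  rw [e2, chi_eq hI.tf1 hG, c, beta_univ hI.tf1 hGM]

variable {Xg : Scheme.{u}} (jg : Xg ⟶ X) [Flat jg]

omit [Xs.Over (Spec (CommRingCat.of (IsLocalRing.ResidueField R)))]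
  [IsProper (Xs ↘ Spec (CommRingCat.of (IsLocalRing.ResidueField R)))] in
/-- Away from the special fibre nothing changes. -/
theorem Step.generic [IsClosedImmersion i] (hdis : ∀ z, jg z ∉ Set.range ⇑i) (hI : Adm f i I)
    (h : Step i S I I') :
    Nonempty ((Scheme.Modules.pullback jg).obj I' ≅ (Scheme.Modules.pullback jg).obj I) := by
  obtain ⟨G, π, hG, rfl⟩ := h
  let ψ := (Scheme.Modules.pullbackPushforwardAdjunction i).unit.app I ≫ (Scheme.Modules.pushforward i).map π
  haveI := CohGenLib.preservesFiniteLimits_pullback_flat jg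
  let j := kernel.ι ψ
  haveI : Mono ((Scheme.Modules.pullback jg).map j) := inferInstance
  have hiso : ∀ z, IsIso ((St (jg z)).map j) := fun z => by
    have hinj : Function.Injective ((St (jg z)).map j).hom := stalk_inj j (jg z)
    have hsurj : Function.Surjective ((St (jg z)).map j).hom := fun v => by
      haveI : Subsingleton ((St (jg z)).obj ((Scheme.Modules.pushforward i).obj G)) :=
        not_not.mp fun hh => hdis z (DevissLib.support_push_subset i G hh)
      exact exists_of_kernel ψ (jg z) (Subsingleton.elim _ _)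
    exact (ConcreteCategory.isIso_iff_bijective _).mpr ⟨hinj, hsurj⟩
  have hiso' : ∀ z, IsIso ((St z).map ((Scheme.Modules.pullback jg).map j)) := fun z => by
    haveI := hiso z
    have hn := (KFlatLib.stalkPullIso jg z).hom.naturality j
    have : IsIso ((KFlatLib.stalkPullIso jg z).hom.app _ ≫
        (ModuleCat.extendScalars (jg.stalkMap z).hom).map ((St (jg z)).map j)) := inferInstance
    haveI : IsIso ((DerSch.stalkFunctor X (jg z) ⋙ ModuleCat.extendScalars (jg.stalkMap z).hom).map j) :=
      inferInstanceAs (IsIso ((ModuleCat.extendScalars (jg.stalkMap z).hom).map ((St (jg z)).map j)))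
    haveI : IsIso ((KFlatLib.stalkPullIso jg z).hom.app (kernel ψ) ≫
        (DerSch.stalkFunctor X (jg z) ⋙ ModuleCat.extendScalars (jg.stalkMap z).hom).map j) :=
      IsIso.comp_isIso
    exact IsIso.of_isIso_fac_right hn
  haveI : Epi ((Scheme.Modules.pullback jg).map j) :=
    Preadditive.epi_of_cancel_zero _ fun {_} φ hφ => eq_zero_of_stalks φ fun z v => by
      haveI := hiso' z
      obtain ⟨w, rfl⟩ := (ConcreteCategory.bijective_of_isIso ((St z).map ((Scheme.Modules.pullback jg).map j))).2 v
      exact stalk_comp_zero _ _ hφ z w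
  haveI := isIso_of_mono_of_epi ((Scheme.Modules.pullback jg).map j)
  exact ⟨asIso ((Scheme.Modules.pullback jg).map j)⟩

end TFExtLib

end
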