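import Groth.Agent.TFExtLib.ClosedFibre
import Groth.Agent.TFExtLib.Step
import Groth.Agent.S1535
import Groth.Agent.CommAlgDim.Regular
import Groth.Agent.ConsLib.ModLoci

/-!
# From the special fibre and the generic one to all geometric fibres
-/

set_option autoImplicit false
set_option linter.style.haveILetI false
set_option linter.unusedSectionVars false

universe u

open CategoryTheory CategoryTheory.Limits AlgebraicGeometry TopologicalSpace Opposite
open DevissLib IntMultLib TFQuotLib TFModLib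

noncomputable section

namespace TFExtLib

/-- Pulling back along a composite. -/
def pullIso {Y Z X : Scheme.{u}} (q : Y ⟶ Z) (i : Z ⟶ X) {p : Y ⟶ X} (h : q ≫ i = p) (M : X.Modules) :
    (Scheme.Modules.pullback p).obj M ≅ (Scheme.Modules.pullback q).obj ((Scheme.Modules.pullback i).obj M) :=
  (Scheme.Modules.pullbackCongr h.symm).app M ≪≫ ((Scheme.Modules.pullbackComp q i).app M).symm

variable (R : Type u) [CommRing R] [IsDomain R] [IsDiscreteValuationRing R]

/-- A point over the closed point of the base lives over the residue field. -/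
theorem exists_residue_factor {Ω : Type u} [Field Ω] (t : Spec (CommRingCat.of Ω) ⟶ Spec (CommRingCat.of R))
    (h : t (IsLocalRing.closedPoint Ω) = IsLocalRing.closedPoint R) :
    ∃ ω : Spec (CommRingCat.of Ω) ⟶ Spec (CommRingCat.of (IsLocalRing.ResidueField R)),
      ω ≫ Spec.map (CommRingCat.ofHom (IsLocalRing.residue R)) = t := by
  obtain ⟨ψ, rfl⟩ := Spec.map_surjective t
  have h2 : IsLocalRing.maximalIdeal R = Ideal.comap ψ.hom (IsLocalRing.maximalIdeal Ω) :=
    (congrArg PrimeSpectrum.asIdeal h).symm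
  have hker : ∀ a ∈ IsLocalRing.maximalIdeal R, ψ.hom a = 0 := fun a ha => by
    rw [h2, Ideal.mem_comap, IsLocalRing.isField_iff_maximalIdeal_eq.mp (Field.toIsField _), Ideal.mem_bot] at ha
    exact ha
  refine ⟨Spec.map (CommRingCat.ofHom (Ideal.Quotient.lift (IsLocalRing.maximalIdeal R) ψ.hom hker)), ?_⟩
  rw [← Spec.map_comp]
  rfl

/-- Every other point lives over the fraction field. -/
theorem exists_fraction_factor {Ω : Type u} [Field Ω] (t : Spec (CommRingCat.of Ω) ⟶ Spec (CommRingCat.of R))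
    (h : t (IsLocalRing.closedPoint Ω) ≠ IsLocalRing.closedPoint R) :
    ∃ ω : Spec (CommRingCat.of Ω) ⟶ Spec (CommRingCat.of (FractionRing R)),
      ω ≫ Spec.map (CommRingCat.ofHom (algebraMap R (FractionRing R))) = t := by
  obtain ⟨ψ, rfl⟩ := Spec.map_surjective t
  have hinj : Function.Injective ψ.hom := by
    rw [RingHom.injective_iff_ker_eq_bot]
    by_contra hne
    haveI := RingHom.ker_isPrime ψ.hom
    refine h (PrimeSpectrum.ext ?_)
    show Ideal.comap ψ.hom (IsLocalRing.maximalIdeal Ω) = IsLocalRing.maximalIdeal R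
    rw [IsLocalRing.isField_iff_maximalIdeal_eq.mp (Field.toIsField _)]
    exact IsLocalRing.eq_maximalIdeal (IsPrime.to_maximal_ideal hne)
  refine ⟨Spec.map (CommRingCat.ofHom (IsFractionRing.lift (A := R) (K := FractionRing R) (g := ψ.hom) hinj)), ?_⟩
  rw [← Spec.map_comp]
  refine congrArg Spec.map (CommRingCat.hom_ext (RingHom.ext fun x => ?_))
  exact IsFractionRing.lift_algebraMap hinj x

variable {R} {X : Scheme.{u}} (f : X ⟶ Spec (CommRingCat.of R)) [IsProper f]
  {Xg : Scheme.{u}} [Xg.Over (Spec (CommRingCat.of (FractionRing R)))] (j : Xg ⟶ X)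
  (hgen : IsPullback j (Xg ↘ Spec (CommRingCat.of (FractionRing R))) f
    (Spec.map (CommRingCat.ofHom (algebraMap R (FractionRing R)))))

include hgen in
theorem of_generic {Ω : Type u} [Field Ω] {t : Spec (CommRingCat.of Ω) ⟶ Spec (CommRingCat.of R)}
    {Y : Scheme.{u}} {iY : Y ⟶ X} {qY : Y ⟶ Spec (CommRingCat.of Ω)} (H : IsPullback iY qY f t)
    (h : t (IsLocalRing.closedPoint Ω) ≠ IsLocalRing.closedPoint R) :
    ∃ (ω : Spec (CommRingCat.of Ω) ⟶ Spec (CommRingCat.of (FractionRing R))) (q : Y ⟶ Xg),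
      IsPullback q qY (Xg ↘ Spec (CommRingCat.of (FractionRing R))) ω ∧ q ≫ j = iY ∧
        ω ≫ Spec.map (CommRingCat.ofHom (algebraMap R (FractionRing R))) = t := by
  obtain ⟨ω, hω⟩ := exists_fraction_factor R t h
  refine ⟨ω, hgen.lift iY (qY ≫ ω) (by rw [Category.assoc, hω]; exact H.w), ?_, hgen.lift_fst _ _ _, hω⟩
  exact IsPullback.of_right (by rw [hgen.lift_fst, hω]; exact H) (hgen.lift_snd _ _ _) hgen

variable {Xs : Scheme.{u}} [Xs.Over (Spec (CommRingCat.of (IsLocalRing.ResidueField R)))] (i : Xs ⟶ X)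
  (hsq : IsPullback i (Xs ↘ Spec (CommRingCat.of (IsLocalRing.ResidueField R))) f
    (Spec.map (CommRingCat.ofHom (IsLocalRing.residue R))))

include hsq in
theorem of_closed {Ω : Type u} [Field Ω] {t : Spec (CommRingCat.of Ω) ⟶ Spec (CommRingCat.of R)}
    {Y : Scheme.{u}} {iY : Y ⟶ X} {qY : Y ⟶ Spec (CommRingCat.of Ω)} (H : IsPullback iY qY f t)
    (h : t (IsLocalRing.closedPoint Ω) = IsLocalRing.closedPoint R) :
    ∃ (ω : Spec (CommRingCat.of Ω) ⟶ Spec (CommRingCat.of (IsLocalRing.ResidueField R))) (q : Y ⟶ Xs),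
      IsPullback q qY (Xs ↘ Spec (CommRingCat.of (IsLocalRing.ResidueField R))) ω ∧ q ≫ i = iY ∧
        ω ≫ Spec.map (CommRingCat.ofHom (IsLocalRing.residue R)) = t := by
  obtain ⟨ω, hω⟩ := exists_residue_factor R t h
  refine ⟨ω, hsq.lift iY (qY ≫ ω) (by rw [Category.assoc, hω]; exact H.w), ?_, hsq.lift_fst _ _ _, hω⟩
  exact IsPullback.of_right (by rw [hsq.lift_fst, hω]; exact H) (hsq.lift_snd _ _ _) hsq

variable [IsProper (Xs ↘ Spec (CommRingCat.of (IsLocalRing.ResidueField R)))]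
  [AlgebraicGeometry.IsNoetherian Xs] [IsReduced Xs] [Flat f] [GeometricallyReduced f]
  (hd : topologicalKrullDim Xs ≤ 1)
  (hgi : ∀ (C : Set Xs) (hC : C ∈ irreducibleComponents (Xs : Type u)), GeometricallyIntegral
    (VecSt.subschι Xs C (isClosed_of_mem_irreducibleComponents C hC) ≫
      (Xs ↘ Spec (CommRingCat.of (IsLocalRing.ResidueField R)))))

include hsq hd in
theorem adm_of_relTF1 {I : X.Modules} (hI : TFOne.IsRelTF1 f I) : Adm f i I := by
  haveI : IsLocallyNoetherian X := LocallyOfFiniteType.isLocallyNoetherian f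
  haveI : Coh.IsQCoh I :=
    have : SheafOfModules.IsFinitePresentation (R := X.ringCatSheaf) I := hI.2.1
    inferInstance
  have hc : Coh.IsCoh I := ConsLib.isCoh_of_isFP hI.2.1
  refine ⟨hc, hI.1, ?_⟩
  let Ω := AlgebraicClosure (IsLocalRing.ResidueField R)
  let ω : Spec (CommRingCat.of Ω) ⟶ Spec (CommRingCat.of (IsLocalRing.ResidueField R)) :=
    Spec.map (CommRingCat.ofHom (algebraMap _ _))
  let s := Xs ↘ Spec (CommRingCat.of (IsLocalRing.ResidueField R))
  have H := (IsPullback.of_hasPullback s ω).paste_horiz hsq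
  obtain ⟨hP, hN, hR, -⟩ := fibre_props f i hsq hd H
  haveI := hN
  haveI := hR
  letI : (pullback s ω).Over (Spec (CommRingCat.of Ω)) := ⟨pullback.snd s ω⟩
  obtain ⟨h1, h2⟩ := flat_surj (pullback.fst s ω) (IsPullback.of_hasPullback s ω)
  haveI := h1
  haveI := h2
  haveI := hc.1
  refine isTF1_of_pullback (pullback.fst s ω) (ConsLib.isCoh_pullback i hc) ?_
  exact isTF1_of_iso (pullIso (pullback.fst s ω) i rfl I) (hI.2.2 Ω _ _ _ _ H)

variable {I : X.Modules} (hI : TFOne.IsRelTF1 f I) {a : X.Modules} (ha : Adm f i a)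
  (e : (Scheme.Modules.pullback j).obj a ≅ (Scheme.Modules.pullback j).obj I)

include hsq hd hgen hI ha e in
theorem relTF1_of_adm : TFOne.IsRelTF1 f a := by
  haveI : IsLocallyNoetherian X := LocallyOfFiniteType.isLocallyNoetherian f
  refine ⟨ha.flat, QCohLib.isFP_of_isCoh a ha.coh, fun Ω _ _ t Y iY qY H => ?_⟩
  by_cases hp : t (IsLocalRing.closedPoint Ω) = IsLocalRing.closedPoint R
  · obtain ⟨ω, q, Hq, hq, -⟩ := of_closed f i hsq H hp
    obtain ⟨hP, hN, hR, -⟩ := fibre_props f i hsq hd H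
    haveI := hN
    haveI := hR
    letI : Y.Over (Spec (CommRingCat.of Ω)) := ⟨qY⟩
    haveI : IsProper (Y ↘ Spec (CommRingCat.of Ω)) := hP
    haveI := (flat_surj q Hq).1
    exact isTF1_of_iso (pullIso q i hq a).symm (isTF1_pullback q ha.tf1)
  · obtain ⟨ω, q, Hq, hq, -⟩ := of_generic f j hgen H hp
    exact isTF1_of_iso (pullIso q j hq I ≪≫ (Scheme.Modules.pullback q).mapIso e.symm ≪≫ (pullIso q j hq a).symm)
      (hI.2.2 Ω t Y iY qY H)

variable {E : X.Modules} {r : ℕ}

include hgen e in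
theorem isSimple_generic
    (hIg : TFOne.FibSimple (Xg ↘ Spec (CommRingCat.of (FractionRing R))) ((Scheme.Modules.pullback j).obj I))
    {Ω : Type u} [Field Ω] [IsAlgClosed Ω] {t : Spec (CommRingCat.of Ω) ⟶ Spec (CommRingCat.of R)}
    {Y : Scheme.{u}} {iY : Y ⟶ X} {qY : Y ⟶ Spec (CommRingCat.of Ω)} (H : IsPullback iY qY f t)
    (hp : t (IsLocalRing.closedPoint Ω) ≠ IsLocalRing.closedPoint R) :
    TFOne.IsSimple Y Ω qY ((Scheme.Modules.pullback iY).obj a) := by
  obtain ⟨ω, q, Hq, hq, -⟩ := of_generic f j hgen H hp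
  exact isSimple_of_iso ((Scheme.Modules.pullback q).mapIso e.symm ≪≫ (pullIso q j hq a).symm)
    (hIg Ω ω Y q qY Hq)

include hgen e in
theorem isSemistable_generic
    (hIg : TFOne.FibSemistable (Xg ↘ Spec (CommRingCat.of (FractionRing R))) ((Scheme.Modules.pullback j).obj I)
      ((Scheme.Modules.pullback j).obj E) r)
    {Ω : Type u} [Field Ω] [IsAlgClosed Ω] {t : Spec (CommRingCat.of Ω) ⟶ Spec (CommRingCat.of R)}
    {Y : Scheme.{u}} {iY : Y ⟶ X} {qY : Y ⟶ Spec (CommRingCat.of Ω)} (H : IsPullback iY qY f t)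
    (hp : t (IsLocalRing.closedPoint Ω) ≠ IsLocalRing.closedPoint R) :
    TFOne.IsSemistable Y Ω qY ((Scheme.Modules.pullback iY).obj a) ((Scheme.Modules.pullback iY).obj E) r := by
  obtain ⟨ω, q, Hq, hq, -⟩ := of_generic f j hgen H hp
  exact isSemistable_of_iso ((Scheme.Modules.pullback q).mapIso e.symm ≪≫ (pullIso q j hq a).symm)
    (pullIso q j hq E).symm (hIg Ω ω Y q qY Hq)

variable {σ : Spec (CommRingCat.of R) ⟶ X} (hσ : σ ≫ f = 𝟙 _)
  {σg : Spec (CommRingCat.of (FractionRing R)) ⟶ Xg}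
  (hσg : σg ≫ (Xg ↘ Spec (CommRingCat.of (FractionRing R))) = 𝟙 _)
  (hσgj : σg ≫ j = Spec.map (CommRingCat.ofHom (algebraMap R (FractionRing R))) ≫ σ)

include hgen e hσgj in
theorem isQuasistable_generic
    (hIg : TFOne.FibQuasistableAlong (Xg ↘ Spec (CommRingCat.of (FractionRing R)))
      ((Scheme.Modules.pullback j).obj I) ((Scheme.Modules.pullback j).obj E) σg hσg r)
    {Ω : Type u} [Field Ω] [IsAlgClosed Ω] {t : Spec (CommRingCat.of Ω) ⟶ Spec (CommRingCat.of R)}
    {Y : Scheme.{u}} {iY : Y ⟶ X} {qY : Y ⟶ Spec (CommRingCat.of Ω)} (H : IsPullback iY qY f t)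
    (hp : t (IsLocalRing.closedPoint Ω) ≠ IsLocalRing.closedPoint R)
    (y : Spec (CommRingCat.of Ω) ⟶ Y) (hy : y ≫ iY = t ≫ σ) (hy' : y ≫ qY = 𝟙 _) :
    TFOne.IsQuasistableAtPt Y Ω qY ((Scheme.Modules.pullback iY).obj a) ((Scheme.Modules.pullback iY).obj E) r
      (y (IsLocalRing.closedPoint Ω)) := by
  obtain ⟨ω, q, Hq, hq, hω⟩ := of_generic f j hgen H hp
  refine isQuasistableAtPt_of_iso ((Scheme.Modules.pullback q).mapIso e.symm ≪≫ (pullIso q j hq a).symm)
    (pullIso q j hq E).symm (hIg Ω ω Y q qY Hq y (hgen.hom_ext ?_ ?_) hy')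
  · rw [Category.assoc, hq, hy, Category.assoc, hσgj, ← Category.assoc, hω]
  · rw [Category.assoc, Hq.w, ← Category.assoc, hy', Category.id_comp, Category.assoc, hσg, Category.comp_id]

/-- The special point of the section. -/
def σs : Spec (CommRingCat.of (IsLocalRing.ResidueField R)) ⟶ Xs :=
  hsq.lift (Spec.map (CommRingCat.ofHom (IsLocalRing.residue R)) ≫ σ) (𝟙 _)
    (by rw [Category.assoc, hσ, Category.comp_id, Category.id_comp])

theorem σs_i : σs f i hsq hσ ≫ i = Spec.map (CommRingCat.ofHom (IsLocalRing.residue R)) ≫ σ :=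
  hsq.lift_fst _ _ _

include hsq in
/-- A smooth point of the special fibre lies on one component. -/
theorem eq_of_specializes_smooth {U : X.Opens} [Smooth (U.ι ≫ f)] {z : Xs} (hz : i z ∈ U) {η η' : Xs}
    (hη : η ∈ genericPoints (Xs : Type u)) (hη' : η' ∈ genericPoints (Xs : Type u))
    (h : η ⤳ z) (h' : η' ⤳ z) : η = η' := by
  let W := i ⁻¹ᵁ U
  haveI : Smooth (W.ι ≫ (Xs ↘ Spec (CommRingCat.of (IsLocalRing.ResidueField R)))) :=
    MorphismProperty.of_isPullback (((isPullback_morphismRestrict i U).paste_vert hsq)) ‹_›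
  haveI : IsRegularLocalRing ((W : Scheme.{u}).presheaf.stalk ⟨z, hz⟩) := by
    letI : (W : Scheme.{u}).Over (Spec (CommRingCat.of (IsLocalRing.ResidueField R))) :=
      ⟨W.ι ≫ (Xs ↘ Spec (CommRingCat.of (IsLocalRing.ResidueField R)))⟩
    haveI : Smooth ((W : Scheme.{u}) ↘ Spec (CommRingCat.of (IsLocalRing.ResidueField R))) := ‹_›
    exact Groth.Agent.S1535.result (IsLocalRing.ResidueField R) (W : Scheme.{u}) ⟨z, hz⟩
  haveI := CommAlgDim.isDomain_of_isRegularLocalRing ((W : Scheme.{u}).presheaf.stalk ⟨z, hz⟩)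
  haveI : IsDomain (Xs.presheaf.stalk z) := (W.stalkIso ⟨z, hz⟩).commRingCatIsoToRingEquiv.toMulEquiv.symm.isDomain
  let b : Spec (Xs.presheaf.stalk z) := (⟨⊥, Ideal.isPrime_bot⟩ : PrimeSpectrum (Xs.presheaf.stalk z))
  have key : ∀ ν ∈ genericPoints (Xs : Type u), ν ⤳ z → Xs.fromSpecStalk z b = ν := fun ν hν hνz => by
    have hr : ν ∈ Set.range (Xs.fromSpecStalk z) := by
      rw [Scheme.range_fromSpecStalk]
      exact hνz
    obtain ⟨p, rfl⟩ := hr
    refine eq_of_specializes_generic hν (Specializes.map ?_ (Xs.fromSpecStalk z).continuous)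
    exact (PrimeSpectrum.le_iff_specializes b p).mp bot_le
  exact (key η hη h).symm.trans (key η' hη' h')

end TFExtLib

end
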