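import Groth.Agent.TFExtLib.Curve
import Groth.Agent.TFQuotLib.Decomp
import Groth.Agent.TFQuotLib.Scalar
import Groth.Agent.TFQuotLib.Simple
import Mathlib.LinearAlgebra.Lagrange

/-!
# Invariance under isomorphism, and simplicity over an algebraically closed field
-/

set_option autoImplicit false
set_option linter.style.haveILetI false
set_option linter.unusedSectionVars false

universe u

open CategoryTheory CategoryTheory.Limits AlgebraicGeometry TopologicalSpace Opposite
open DevissLib IntMultLib TFQuotLib TFModLib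

noncomputable section

namespace TFExtLib

section Iso

variable {X : Scheme.{u}} {k : Type u} [Field k] {q : X ⟶ Spec (CommRingCat.of k)} {M M' E E' : X.Modules} {r : ℕ}

theorem isTF1_of_iso (e : M ≅ M') (h : TFOne.IsTF1 X M) : TFOne.IsTF1 X M' := by
  refine ⟨QCohLib.isCoh_of_iso e h.1, TFQuotLib.torsionFree_sub e.inv h.2.1, fun x hx => ?_⟩
  obtain ⟨ε⟩ := h.2.2 x hx
  exact ⟨((St x).mapIso e).toLinearEquiv.symm.trans (show (St x).obj M ≃ₗ[X.presheaf.stalk x] X.presheaf.stalk x from ε)⟩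

theorem isSimple_of_iso (e : M ≅ M') (h : TFOne.IsSimple X k q M) : TFOne.IsSimple X k q M' := by
  letI : X.Over (Spec (CommRingCat.of k)) := ⟨q⟩
  refine ⟨fun hz => h.1 (hz.of_iso e), fun φ => ?_⟩
  obtain ⟨c, hc⟩ := h.2 (e.hom ≫ φ ≫ e.inv)
  refine ⟨c, ?_⟩
  have hc' : e.hom ≫ φ ≫ e.inv = Formal.smulMod k M c := hc
  rw [← cancel_epi e.hom, AlgzCohLib.smulMod_naturality, ← hc']
  simp

theorem isQuotOn_comp_iso (e : M ≅ M') {Z : Set X} {G : X.Modules} {π : M' ⟶ G}
    (h : TFOne.IsQuotOn X M' Z G π) : TFOne.IsQuotOn X M Z G (e.hom ≫ π) :=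
  haveI := h.1
  ⟨inferInstance, h.2.1, h.2.2.1, h.2.2.2⟩

theorem rBeta_congr (e : E ≅ E') {Z : Set X} (hZ : IsClosed Z) (G : X.Modules) :
    TFOne.rBeta X k q Z hZ E r G = TFOne.rBeta X k q Z hZ E' r G := by
  unfold TFOne.rBeta
  letI : (VecSt.subsch X Z hZ).Over (Spec (CommRingCat.of k)) := ⟨VecSt.subschι X Z hZ ≫ q⟩
  rw [CurvLib.deg_congr ((Scheme.Modules.pullback (VecSt.subschι X Z hZ)).mapIso e) r]

theorem isSemistable_of_iso (e : M ≅ M') (eE : E ≅ E') (h : TFOne.IsSemistable X k q M E r) :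
    TFOne.IsSemistable X k q M' E' r :=
  ⟨isTF1_of_iso e h.1, fun Z hZ h1 h2 G π hG =>
    rBeta_congr (k := k) (q := q) (r := r) eE hZ G ▸ h.2 Z hZ h1 h2 G _ (isQuotOn_comp_iso e hG)⟩

theorem isQuasistableAtPt_of_iso (e : M ≅ M') (eE : E ≅ E') {y : X}
    (h : TFOne.IsQuasistableAtPt X k q M E r y) : TFOne.IsQuasistableAtPt X k q M' E' r y :=
  ⟨isSemistable_of_iso e eE h.1, fun Z hZ h1 h2 h3 G π hG =>
    rBeta_congr (k := k) (q := q) (r := r) eE hZ G ▸ h.2 Z hZ h1 h2 h3 G _ (isQuotOn_comp_iso e hG)⟩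

end Iso

variable {k : Type u} [Field k] {X : Scheme.{u}} [X.Over (Spec (CommRingCat.of k))]
  [IsProper (X ↘ Spec (CommRingCat.of k))] [AlgebraicGeometry.IsNoetherian X] [IsReduced X]

theorem exists_scalar_algClosed [IsAlgClosed k] {M : X.Modules} (hM : TFOne.IsTF1 X M)
    {η : X} (hη : η ∈ genericPoints X) (φ : M ⟶ M) : ∃ a : k, ∀ P : Polynomial k, ∀ v,
      ((St η).map (Polynomial.aeval (show End M from φ) P)).hom v = Curv2.stalkMap k X η (P.eval a) • v := by
  letI : Algebra k (X.presheaf.stalk η) := (Curv2.stalkMap k X η).toAlgebra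
  letI := (TFQuotLib.isField_stalk_generic hη).toField
  haveI : Module.Finite k (End M) := finite_end (k := k) hM.1
  obtain ⟨Λ, hΛ⟩ := exists_genScalar (k := k) hM hη
  have hint : IsIntegral k (Λ (show End M from φ)) := (IsIntegral.of_finite k (show End M from φ)).map Λ
  obtain ⟨a, ha⟩ : Λ (show End M from φ) ∈ (algebraMap k (X.presheaf.stalk η)).range :=
    (minpoly.degree_eq_one_iff (A := k)).mp
      (IsAlgClosed.degree_eq_one_of_irreducible k (minpoly.irreducible hint))
  refine ⟨a, fun P v => (hΛ _ v).trans ?_⟩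
  rw [← Polynomial.aeval_algHom_apply, ← ha]
  exact congrArg (· • v) (Polynomial.aeval_algebraMap_apply_eq_algebraMap_eval a P)

/-- An indecomposable sheaf is simple. -/
theorem isSimple_of_indecomposable [IsAlgClosed k] [Nonempty X] [DecidableEq X] {I : X.Modules}
    (hI : TFOne.IsTF1 X I)
    (hdec : ∀ (T : Finset X), T ⊆ gens X → T.Nonempty → T ≠ gens X →
      ∀ (G1 G2 : X.Modules) (π1 : I ⟶ G1) (π2 : I ⟶ G2), TFOne.IsQuotOn X I (cl T) G1 π1 →
        TFOne.IsQuotOn X I (cl (gens X \ T)) G2 π2 → ¬ IsIso (biprod.lift π1 π2)) :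
    TFOne.IsSimple X k (X ↘ Spec (CommRingCat.of k)) I := by
  classical
  obtain ⟨x⟩ := ‹Nonempty X›
  obtain ⟨η, hη, -⟩ := gdense_univ.2 x (Set.mem_univ x)
  refine ⟨fun hz => ?_, fun φ => ?_⟩
  · have h := mem_support_tf1 hI hη
    rw [DevissLib.support_of_isZero hz] at h
    exact h
  have hsc : ∀ η : X, ∃ a : k, η ∈ genericPoints X → ∀ P : Polynomial k, ∀ v,
      ((St η).map (Polynomial.aeval (show End I from φ) P)).hom v = Curv2.stalkMap k X η (P.eval a) • v := fun η => by
    by_cases h : η ∈ genericPoints X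
    · obtain ⟨a, ha⟩ := exists_scalar_algClosed (k := k) hI h φ
      exact ⟨a, fun _ => ha⟩
    · exact ⟨0, fun h' => absurd h' h⟩
  choose c hc using hsc
  let a := c η
  by_cases hall : ∀ η ∈ genericPoints X, c η = a
  · refine ⟨a, TFQuotLib.eq_smulMod_of_generic hI φ a fun η hη v => ?_⟩
    have h := hc η hη Polynomial.X v
    rw [Polynomial.eval_X, hall η hη] at h
    exact (congrArg (fun t : I ⟶ I => ((St η).map t).hom v)
      (Polynomial.aeval_X (show End I from φ)).symm).trans h
  exfalso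
  push Not at hall
  obtain ⟨η₁, hη₁, hne⟩ := hall
  let T := (gens X).filter fun η => c η = a
  have hT : T ⊆ gens X := Finset.filter_subset _ _
  have hmem : ∀ η ∈ genericPoints X, η ∈ cl T ↔ c η = a := fun η hη => by
    rw [mem_cl hT hη, Finset.mem_filter]
    exact and_iff_right (mem_gens.mpr hη)
  have hmem' : ∀ η ∈ genericPoints X, η ∈ cl (gens X \ T) ↔ c η ≠ a := fun η hη => by
    rw [mem_cl Finset.sdiff_subset hη, Finset.mem_sdiff, Finset.mem_filter]
    simp [mem_gens.mpr hη]
  let s : Finset k := insert a ((gens X).image c)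
  let P : Polynomial k := Lagrange.basis s id a
  have hP : ∀ η ∈ genericPoints X, P.eval (c η) = if c η = a then 1 else 0 := fun η hη => by
    split_ifs with h
    · rw [h]
      exact Lagrange.eval_basis_self (Function.injective_id.injOn) (Finset.mem_insert_self _ _)
    · exact Lagrange.eval_basis_of_ne (v := id) (Ne.symm h)
        (Finset.mem_insert_of_mem (Finset.mem_image_of_mem c (mem_gens.mpr hη)))
  let e : I ⟶ I := (Polynomial.aeval (show End I from φ) P : End I)
  have he : ∀ η ∈ genericPoints X, ∀ v, ((St η).map e).hom v = if c η = a then v else 0 := fun η hη v => by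
    refine (hc η hη P v).trans ?_
    rw [hP η hη]
    split_ifs with h
    · rw [map_one]
      exact one_smul _ v
    · rw [map_zero]
      exact zero_smul _ v
  have he2 : ∀ η ∈ genericPoints X, ∀ v, ((St η).map (𝟙 I - e)).hom v = if c η = a then 0 else v := fun η hη v => by
    rw [Functor.map_sub, CategoryTheory.Functor.map_id]
    refine (congrArg (v - ·) (he η hη v)).trans ?_
    split_ifs
    · exact sub_self v
    · exact sub_zero v
  have hidem : e ≫ e = e := by
    rw [← sub_eq_zero]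
    refine TFQuotLib.eq_zero_of_generic _ hI.1.1 hI.1 hI.2.1 fun η hη => ?_
    rw [Functor.map_sub, sub_eq_zero, Functor.map_comp]
    ext v
    rw [ModuleCat.comp_apply, he η hη, he η hη]
    split_ifs <;> rfl
  refine hdec T hT ⟨η, Finset.mem_filter.mpr ⟨mem_gens.mpr hη, rfl⟩⟩
    (fun h => hne (Finset.mem_filter.mp (h.ge (mem_gens.mpr hη₁))).2) _ _
    (Abelian.factorThruImage e) (Abelian.factorThruImage (𝟙 I - e))
    (TFQuotLib.isQuotOn_image hI e (isClosed_cl T) (gdense_cl hT).2
      (fun η hη h v => (he η hη v).trans (if_pos ((hmem η hη).mp h)))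
      (fun η hη h v => (he η hη v).trans (if_neg fun h' => h ((hmem η hη).mpr h'))))
    (TFQuotLib.isQuotOn_image hI (𝟙 I - e) (isClosed_cl _) (gdense_cl Finset.sdiff_subset).2
      (fun η hη h v => (he2 η hη v).trans (if_neg ((hmem' η hη).mp h)))
      (fun η hη h v => (he2 η hη v).trans (if_pos (not_not.mp fun h' => h ((hmem' η hη).mpr h')))))
    (TFQuotLib.isIso_lift_of_idem e hidem)

end TFExtLib

end
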