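import Groth.Agent.TFModLib.Main
import Groth.Agent.TFModLib.Split

/-!
# Numbers attached to the sets of components
-/

set_option autoImplicit false
set_option linter.style.haveILetI false
set_option linter.unusedSectionVars false

universe u

open CategoryTheory CategoryTheory.Limits AlgebraicGeometry TopologicalSpace Opposite
open DevissLib IntMultLib TFQuotLib TFModLib

noncomputable section

namespace TFExtLib

variable {X : Scheme.{u}} [AlgebraicGeometry.IsNoetherian X] [IsReduced X]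

/-- The generic points. -/
def gens (X : Scheme.{u}) [AlgebraicGeometry.IsNoetherian X] [IsReduced X] : Finset X :=
  (finite_generic (X := X)).toFinset

theorem mem_gens {η : X} : η ∈ gens X ↔ η ∈ genericPoints X := Set.Finite.mem_toFinset _

/-- The union of the closures. -/
def cl (S : Finset X) : Set X := ⋃ η ∈ S, closure {η}

theorem isClosed_cl (S : Finset X) : IsClosed (cl S) :=
  Set.Finite.isClosed_biUnion S.finite_toSet fun η _ => isClosed_closure

theorem mem_cl {S : Finset X} (hS : S ⊆ gens X) {η : X} (hη : η ∈ genericPoints X) : η ∈ cl S ↔ η ∈ S := by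
  refine ⟨fun h => ?_, fun h => Set.mem_biUnion h (subset_closure rfl)⟩
  obtain ⟨z, hz, hzη⟩ := Set.mem_iUnion₂.mp h
  rw [← eq_of_specializes_generic hη (specializes_iff_mem_closure.mpr hzη)]
  exact hz

theorem gdense_cl {S : Finset X} (hS : S ⊆ gens X) : GDense (cl S) :=
  ⟨isClosed_cl S, fun x hx => by
    obtain ⟨z, hz, hzx⟩ := Set.mem_iUnion₂.mp hx
    exact ⟨z, mem_gens.mp (hS hz), Set.mem_biUnion hz (subset_closure rfl), specializes_iff_mem_closure.mpr hzx⟩⟩

theorem cl_union [DecidableEq X] (S T : Finset X) : cl (S ∪ T) = cl S ∪ cl T := by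
  unfold cl
  exact Finset.set_biUnion_union S T _

theorem cl_mono {S T : Finset X} (h : S ⊆ T) : cl S ⊆ cl T := Set.biUnion_subset_biUnion_left h

theorem cl_subset_iff {S T : Finset X} (hS : S ⊆ gens X) (hT : T ⊆ gens X) : cl S ⊆ cl T ↔ S ⊆ T :=
  ⟨fun h η hη => (mem_cl hT (mem_gens.mp (hS hη))).mp (h (Set.mem_biUnion hη (subset_closure rfl))), cl_mono⟩

theorem cl_eq_univ_iff {S : Finset X} (hS : S ⊆ gens X) : cl S = Set.univ ↔ S = gens X := by
  refine ⟨fun h => Finset.Subset.antisymm hS fun η hη => (mem_cl hS (mem_gens.mp hη)).mp (h ▸ Set.mem_univ η),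
    fun h => Set.univ_subset_iff.mp (gdense_univ.subset_iff (isClosed_cl S) fun η hη _ =>
      (mem_cl hS hη).mpr (h ▸ mem_gens.mpr hη))⟩

theorem cl_empty : cl (∅ : Finset X) = ∅ := by simp [cl]

theorem isSubcurve_cl {S : Finset X} (hS : S ⊆ gens X) (hne : S.Nonempty) : VecSt.IsSubcurve X (cl S) :=
  isSubcurve_of_gdense (gdense_cl hS) ⟨hne.choose, Set.mem_biUnion hne.choose_spec (subset_closure rfl)⟩

/-- The generic points in a set. -/
def gensIn (T : Set X) : Finset X := by classical exact (gens X).filter (· ∈ T)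

theorem gensIn_subset (T : Set X) : gensIn T ⊆ gens X := fun η h => by
  classical
  simp only [gensIn] at h
  exact Finset.filter_subset _ _ h

theorem mem_gensIn {T : Set X} {η : X} : η ∈ gensIn T ↔ η ∈ genericPoints X ∧ η ∈ T := by
  classical
  simp only [gensIn]
  rw [Finset.mem_filter, mem_gens]

theorem cl_gensIn {T : Set X} (hT : GDense T) : cl (gensIn T) = T :=
  Set.Subset.antisymm
    ((gdense_cl (gensIn_subset T)).subset_iff hT.1 fun η hη h =>
      (mem_gensIn.mp ((mem_cl (gensIn_subset T) hη).mp h)).2)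
    (hT.subset_iff (isClosed_cl _) fun η hη h => (mem_cl (gensIn_subset T) hη).mpr (mem_gensIn.mpr ⟨hη, h⟩))

theorem gensIn_nonempty {T : Set X} (hT : GDense T) (hne : T.Nonempty) : (gensIn T).Nonempty := by
  obtain ⟨η, h1, h2, -⟩ := hT.2 _ hne.some_mem
  exact ⟨η, mem_gensIn.mpr ⟨h1, h2⟩⟩

variable {k : Type u} [Field k] [X.Over (Spec (CommRingCat.of k))] [IsProper (X ↘ Spec (CommRingCat.of k))]

open Classical in
/-- The Euler characteristic of the quotient on a set of components. -/
def chi (k : Type u) [Field k] [X.Over (Spec (CommRingCat.of k))] (M : X.Modules) (S : Finset X) : ℤ :=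
  if h : ∃ (G : X.Modules) (π : M ⟶ G), TFOne.IsQuotOn X M (cl S) G π then Curv2.euler k X h.choose else 0

variable {M : X.Modules} (hM : TFOne.IsTF1 X M)

include hM in
theorem chi_eq {S : Finset X} {G : X.Modules} {π : M ⟶ G} (h : TFOne.IsQuotOn X M (cl S) G π) :
    chi k M S = Curv2.euler k X G := by
  have hex : ∃ (G : X.Modules) (π : M ⟶ G), TFOne.IsQuotOn X M (cl S) G π := ⟨G, π, h⟩
  rw [chi, dif_pos hex]
  obtain ⟨π', h'⟩ := hex.choose_spec
  exact CurvLib.euler_congr (iso_of_quot hM h' h).choose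

include hM in
theorem chi_eq_set {T : Set X} (hT : GDense T) {G : X.Modules} {π : M ⟶ G} (h : TFOne.IsQuotOn X M T G π) :
    chi k M (gensIn T) = Curv2.euler k X G :=
  chi_eq hM (S := gensIn T) ((cl_gensIn hT).symm ▸ h)

include hM in
theorem exists_quot_cl {S : Finset X} (hS : S ⊆ gens X) :
    ∃ (G : X.Modules) (π : M ⟶ G), TFOne.IsQuotOn X M (cl S) G π ∧ chi k M S = Curv2.euler k X G := by
  obtain ⟨G, π, h⟩ := exists_quot hM (gdense_cl hS)
  exact ⟨G, π, h, chi_eq hM h⟩

include hM in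
theorem chi_gens : chi k M (gens X) = Curv2.euler k X M :=
  chi_eq hM (π := 𝟙 M) (((cl_eq_univ_iff (S := gens X) (subset_refl _)).mpr rfl).symm ▸ isQuotOn_univ hM)

include hM in
theorem chi_empty : chi k M (∅ : Finset X) = 0 := by
  obtain ⟨G, π, hG, e⟩ := exists_quot_cl (k := k) hM (Finset.empty_subset (gens X))
  rw [e]
  exact euler_eq_zero_of_support hG.2.1 (hG.2.2.2.trans cl_empty)

variable (hd : topologicalKrullDim X ≤ 1) [DecidableEq X]

include hM hd in
theorem chi_submod {S T : Finset X} (hS : S ⊆ gens X) (hT : T ⊆ gens X) :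
    chi k M (S ∪ T) + chi k M (S ∩ T) ≤ chi k M S + chi k M T := by
  have hI : S ∩ T ⊆ gens X := Finset.inter_subset_left.trans hS
  obtain ⟨GS, πS, hGS, eS⟩ := exists_quot_cl (k := k) hM hS
  obtain ⟨GT, πT, hGT, eT⟩ := exists_quot_cl (k := k) hM hT
  obtain ⟨GI, πI, hGI, eI⟩ := exists_quot_cl (k := k) hM hI
  obtain ⟨GU, πU, hGU, eU⟩ := exists_quot_cl (k := k) hM (Finset.union_subset hS hT)
  rw [eS, eT, eI, eU]
  refine euler_union_meet hd hM (fun η hη => ?_) (cl_mono Finset.inter_subset_left)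
    (cl_mono Finset.inter_subset_right) hGS hGT (cl_union S T ▸ hGU) hGI
  rw [mem_cl hI hη, mem_cl hS hη, mem_cl hT hη, Finset.mem_inter]

variable {GY N : X.Modules} {πY : M ⟶ GY} {a : GY ⟶ N} {b : N ⟶ M}

include hM hd in
theorem chi_compare {S T : Finset X} (hS : S ⊆ gens X) (hT : T ⊆ gens X)
    (hGY : TFOne.IsQuotOn X M (cl S) GY πY) (h : IsModif πY a b) :
    chi k M (S ∩ T) + chi k M (S ∪ T) ≤ chi k N T + chi k M S := by
  have hN := h.isTF1 hM hGY
  have hI : S ∩ T ⊆ gens X := Finset.inter_subset_left.trans hS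
  obtain ⟨GT, πT, hGT, eT⟩ := exists_quot_cl (k := k) hN hT
  obtain ⟨GI, πI, hGI, eI⟩ := exists_quot_cl (k := k) hM hI
  obtain ⟨GU, πU, hGU, eU⟩ := exists_quot_cl (k := k) hM (Finset.union_subset hS hT)
  rw [eI, eU, eT, chi_eq hM hGY]
  exact (h.compare (V := ∅) hM hGY hd (cl_mono Finset.inter_subset_left) (fun η hη => by
    rw [mem_cl hI hη, mem_cl hS hη, mem_cl hT hη, Finset.mem_inter]) hGT hGI (cl_union S T ▸ hGU)).1

include hM hd in
/-- Splitting along complementary sets of components is numerical. -/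
theorem isIso_lift_of_chi {S : Finset X} (hS : S ⊆ gens X)
    (h : chi k M S + chi k M (gens X \ S) = Curv2.euler k X M)
    {G1 G2 : X.Modules} {π1 : M ⟶ G1} {π2 : M ⟶ G2} (h1 : TFOne.IsQuotOn X M (cl S) G1 π1)
    (h2 : TFOne.IsQuotOn X M (cl (gens X \ S)) G2 π2) : IsIso (biprod.lift π1 π2) := by
  refine (isIso_lift_iff (k := k) hd hM (fun η hη => ?_) h1 h2).mpr (by rw [← chi_eq hM h1, ← chi_eq hM h2, h])
  rw [mem_cl Finset.sdiff_subset hη, mem_cl hS hη, Finset.mem_sdiff]
  exact and_iff_right (mem_gens.mpr hη)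

end TFExtLib

end
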