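import Groth.Agent.TFExtLib.Step
import Groth.Agent.TFExtLib.Compl
import Groth.Agent.TFModLib.TowerFibre
import Groth.Agent.FormalPullLib.Basic
import Groth.Agent.CohGenLib.Pro

/-!
# The flat limit quotient over the completion
-/

set_option autoImplicit false
set_option linter.style.haveILetI false
set_option linter.unusedSectionVars false

universe u

open CategoryTheory CategoryTheory.Limits AlgebraicGeometry TopologicalSpace Opposite
open DevissLib IntMultLib TFQuotLib TFModLib

noncomputable section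

namespace TFExtLib

section Exactness

variable {X Z : Scheme.{u}} (q : Z ⟶ X) {M N : X.Modules}

theorem pullback_cokernel_iff (φ : M ⟶ N) (z : Z) (m : (St z).obj ((Scheme.Modules.pullback q).obj N)) :
    ((St z).map ((Scheme.Modules.pullback q).map (cokernel.π φ))).hom m = 0 ↔
      ∃ w, ((St z).map ((Scheme.Modules.pullback q).map φ)).hom w = m := by
  let F := Scheme.Modules.pullback q
  haveI : F.Additive := (Scheme.Modules.pullbackPushforwardAdjunction q).left_adjoint_additive
  haveI := (Scheme.Modules.pullbackPushforwardAdjunction q).leftAdjoint_preservesColimits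
  have hc : IsColimit (CokernelCofork.ofπ (F.map (cokernel.π φ)) (f := F.map φ)
      (by rw [← F.map_comp, cokernel.condition, F.map_zero])) :=
    isColimitCoforkMapOfIsColimit' F (cokernel.condition φ) (cokernelIsCokernel φ)
  have hS : (ShortComplex.mk (F.map φ) (F.map (cokernel.π φ))
      (by rw [← F.map_comp, cokernel.condition, F.map_zero])).Exact :=
    ShortComplex.exact_of_g_is_cokernel _ hc
  exact (ShortComplex.ShortExact.moduleCat_exact_iff_function_exact _).mp (hS.map (St z)) m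

theorem epi_pullback (φ : M ⟶ N) [Epi φ] : Epi ((Scheme.Modules.pullback q).map φ) := by
  haveI := (Scheme.Modules.pullbackPushforwardAdjunction q).leftAdjoint_preservesColimits
  infer_instance

theorem mono_pullback [Flat q] (φ : M ⟶ N) [Mono φ] : Mono ((Scheme.Modules.pullback q).map φ) := by
  haveI := CohGenLib.preservesFiniteLimits_pullback_flat q
  infer_instance

/-- Two epimorphisms with the same kernel. -/
theorem exists_iso_of_ker {A B B' : X.Modules} (p : A ⟶ B) (p' : A ⟶ B') [Epi p] [Epi p']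
    (h : ∀ x m, ((St x).map p).hom m = 0 ↔ ((St x).map p').hom m = 0) : ∃ e : B ≅ B', p ≫ e.hom = p' := by
  have hz : kernel.ι p ≫ p' = 0 := eq_zero_of_stalks _ fun x v => by
    rw [stalk_comp]
    exact (h x _).mp (stalk_comp_zero _ _ (kernel.condition p) x v)
  let e : B ⟶ B' := (Abelian.epiIsCokernelOfKernel _ (kernelIsKernel p)).desc (CokernelCofork.ofπ p' hz)
  have he : p ≫ e = p' :=
    (Abelian.epiIsCokernelOfKernel _ (kernelIsKernel p)).fac (CokernelCofork.ofπ p' hz) WalkingParallelPair.one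
  haveI : Epi e := by
    haveI : Epi (p ≫ e) := he.symm ▸ ‹Epi p'›
    exact epi_of_epi p e
  haveI : Mono e := mono_of_stalks e fun x y hy => by
    obtain ⟨m, rfl⟩ := stalk_surj p x y
    rw [← stalk_comp, he] at hy
    exact (h x m).mpr hy
  haveI := isIso_of_mono_of_epi e
  exact ⟨asIso e, he⟩

end Exactness

variable {R : Type u} [CommRing R] [IsDomain R] [IsDiscreteValuationRing R]
  {X : Scheme.{u}} (f : X ⟶ Spec (CommRingCat.of R)) [IsProper f] {Xs : Scheme.{u}} (i : Xs ⟶ X)
  [Xs.Over (Spec (CommRingCat.of (IsLocalRing.ResidueField R)))]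
  [IsProper (Xs ↘ Spec (CommRingCat.of (IsLocalRing.ResidueField R)))]
  [AlgebraicGeometry.IsNoetherian Xs] [IsReduced Xs] [DecidableEq Xs]
  (hsq : IsPullback i (Xs ↘ Spec (CommRingCat.of (IsLocalRing.ResidueField R))) f
    (Spec.map (CommRingCat.ofHom (IsLocalRing.residue R))))
  (hd : topologicalKrullDim Xs ≤ 1)

include hsq hd in
/-- A sequence of decomposing modifications gives a tower. -/
theorem exists_tower {In : ℕ → X.Modules} {S : Finset Xs} (hS : S ⊆ gens Xs) (hA : ∀ n, Adm f i (In n))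
    (hstep : ∀ n, Step i S (In n) (In (n + 1)))
    (hdec : ∀ n, chi (IsLocalRing.ResidueField R) ((Scheme.Modules.pullback i).obj (In n)) S +
      chi (IsLocalRing.ResidueField R) ((Scheme.Modules.pullback i).obj (In n)) (gens Xs \ S) =
      chi (IsLocalRing.ResidueField R) ((Scheme.Modules.pullback i).obj (In n)) (gens Xs))
    {ϖ : R} (hϖ : Irreducible ϖ) :
    letI : X.Over (Spec (CommRingCat.of R)) := ⟨f⟩
    ∃ W : Tower (R := R) (X := X) ϖ, ∃ hobj : W.obj = In,
      (∀ n (x : X) (u : (St x).obj (W.obj n)), ∃ v w,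
        u = ((St x).map (W.j n)).hom v + ((St x).map (W.T n)).hom w) ∧
      (∀ n (x : X) (u : (St x).obj (W.obj n)),
        (∃ v, ((St x).map (W.t n)).hom u = ((St x).map (W.j (n + 1))).hom v) →
          ∃ v, u = ((St x).map (W.j n)).hom v) ∧
      ∃ (G : Xs.Modules) (π : (Scheme.Modules.pullback i).obj (W.obj 0) ⟶ G),
        TFOne.IsQuotOn Xs ((Scheme.Modules.pullback i).obj (W.obj 0)) (cl S) G π ∧
          (Scheme.Modules.pullback i).map (W.j 0) ≫ π = 0 ∧
          ∀ z m, ((St z).map π).hom m = 0 → ∃ w, ((St z).map ((Scheme.Modules.pullback i).map (W.j 0))).hom w = m := by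
  letI : X.Over (Spec (CommRingCat.of R)) := ⟨f⟩
  haveI := isClosedImmersion_of_isPullback f i _ hsq
  haveI : IsLocallyNoetherian X := LocallyOfFiniteType.isLocallyNoetherian f
  have hT : gens Xs \ S ⊆ gens Xs := Finset.sdiff_subset
  choose G π hG hI using hstep
  choose G' π' hG' using fun n => exists_quot (hA n).tf1 (gdense_cl hT)
  have hY'm : ∀ η ∈ genericPoints (Xs : Type u), η ∈ cl (gens Xs \ S) ↔ η ∉ cl S := fun η hη => by
    rw [mem_cl hT hη, mem_cl hS hη, Finset.mem_sdiff]
    exact and_iff_right (mem_gens.mpr hη)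
  have hcov : cl S ∪ cl (gens Xs \ S) = Set.univ := Set.univ_subset_iff.mp (gdense_univ.subset_iff
    ((isClosed_cl S).union (isClosed_cl _)) fun η hη _ => (em (η ∈ cl S)).imp id (hY'm η hη).mpr)
  have hdi : ∀ n, IsIso (biprod.lift (π n) (π' n)) := fun n =>
    isIso_lift_of_chi (k := IsLocalRing.ResidueField R) (hA n).tf1 hd hS
      ((hdec n).trans (chi_gens (hA n).tf1)) (hG n) (hG' n)
  have hext := fun n => haveI := (hG n).1; exists_extension' f i (Xs ↘ Spec (CommRingCat.of (IsLocalRing.ResidueField R)))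
    hϖ hsq (hA n).coh (hA n).flat (hG n).2.1 (π n) (hI n)
  choose j t a b ha hab hbπ hex hran hcoh hj hb htj hta hoff hiff using hext
  have hiso : ∀ n, IsIso (a n ≫ π (n + 1)) := fun n =>
    isIso_step (k := IsLocalRing.ResidueField R) hd (hA n).tf1 (hG n)
      ⟨ha n, hab n, hbπ n, hex n, hran n, hcoh n⟩ hY'm (gdense_cl hT) hcov (hG (n + 1)) (hG' (n + 1)) (hdi (n + 1))
  let W : Tower (R := R) (X := X) ϖ := ⟨In, j, t, hj, htj⟩
  have hα : ∀ n, ∃ α : G 0 ⟶ G n, IsIso α ∧ (Scheme.Modules.pullback i).map (W.T n) ≫ π n = π 0 ≫ α := by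
    intro n
    induction n with
    | zero => exact ⟨𝟙 _, inferInstance, by
        rw [show W.T 0 = 𝟙 (In 0) from rfl, CategoryTheory.Functor.map_id, Category.id_comp, Category.comp_id]⟩
    | succ n ih =>
      obtain ⟨α, hα1, hα2⟩ := ih
      haveI := hα1
      haveI := hiso n
      refine ⟨α ≫ a n ≫ π (n + 1), inferInstance, ?_⟩
      rw [show W.T (n + 1) = W.T n ≫ t n from rfl, Functor.map_comp, ← hta n]
      simp only [Category.assoc]
      rw [← Category.assoc, hα2, Category.assoc]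
  refine ⟨W, rfl, fun n x u => ?_, fun n x u ⟨v, hv⟩ => ?_, G 0, π 0, hG 0, ?_, ?_⟩
  · by_cases hx : x ∈ Set.range ⇑i
    · obtain ⟨z, rfl⟩ := hx
      obtain ⟨α, hα1, hα2⟩ := hα n
      haveI := hα1
      haveI := (hG 0).1
      obtain ⟨m, hm⟩ := stalk_surj (π 0 ≫ α) z (((St z).map (π n)).hom (res i (In n) z u))
      obtain ⟨w, rfl⟩ := res_surjective i (In 0) z m
      rw [← hα2, stalk_comp, res_map] at hm
      have h0 : ((St z).map (π n)).hom (res i (In n) z (u - ((St (i z)).map (W.T n)).hom w)) = 0 := by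
        have h1 := congrArg ((St z).map (π n)).hom (res_add i (In n) z (u - ((St (i z)).map (W.T n)).hom w)
          (((St (i z)).map (W.T n)).hom w))
        rw [sub_add_cancel, map_add, hm] at h1
        exact add_eq_right.mp h1.symm
      obtain ⟨v, hv⟩ := (hiff n z _).mp h0
      exact ⟨v, w, (sub_eq_iff_eq_add.mp hv.symm)⟩
    · obtain ⟨v, hv⟩ := hoff n x hx u
      exact ⟨v, 0, hv.symm.trans ((add_zero _).symm.trans (congrArg _ (map_zero _).symm))⟩
  · by_cases hx : x ∈ Set.range ⇑i
    · obtain ⟨z, rfl⟩ := hx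
      haveI := hiso n
      have h1 := (hiff (n + 1) z (((St (i z)).map (t n)).hom u)).mpr ⟨v, hv.symm⟩
      rw [← res_map, ← hta n, stalk_comp, ← stalk_comp (a n) (π (n + 1))] at h1
      obtain ⟨w, hw⟩ := (hiff n z u).mp (stalk_inj (a n ≫ π (n + 1)) z (h1.trans (map_zero _).symm))
      exact ⟨w, hw.symm⟩
    · obtain ⟨w, hw⟩ := hoff n x hx u
      exact ⟨w, hw.symm⟩
  · show (Scheme.Modules.pullback i).map (j 0) ≫ π 0 = 0
    rw [← hb 0]
    exact hbπ 0
  · intro z m hm
    obtain ⟨w, hw⟩ := hran 0 z m hm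
    exact ⟨w, (congrArg (fun β => ((St z).map β).hom w) (hb 0)).symm.trans hw⟩

variable (C : Completed R)

/-- Restricting to the special fibre through the completion. -/
def αI (I : X.Modules) :
    (Scheme.Modules.pullback (i' C f i hsq)).obj ((Scheme.Modules.pullback (g C f)).obj I) ≅
      (Scheme.Modules.pullback i).obj I :=
  (Scheme.Modules.pullbackComp (i' C f i hsq) (g C f)).app I ≪≫
    (Scheme.Modules.pullbackCongr (i'_g C f i hsq)).app I

include hsq hd in
/-- The limit quotient. -/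
theorem exists_limit {In : ℕ → X.Modules} {S : Finset Xs} (hS : S ⊆ gens Xs) (hA : ∀ n, Adm f i (In n))
    (hstep : ∀ n, Step i S (In n) (In (n + 1)))
    (hdec : ∀ n, chi (IsLocalRing.ResidueField R) ((Scheme.Modules.pullback i).obj (In n)) S +
      chi (IsLocalRing.ResidueField R) ((Scheme.Modules.pullback i).obj (In n)) (gens Xs \ S) =
      chi (IsLocalRing.ResidueField R) ((Scheme.Modules.pullback i).obj (In n)) (gens Xs)) :
    ∃ (F : (X' C f).Modules) (p : (Scheme.Modules.pullback (g C f)).obj (In 0) ⟶ F)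
      (G : Xs.Modules) (π : (Scheme.Modules.pullback i).obj (In 0) ⟶ G)
      (e : (Scheme.Modules.pullback (i' C f i hsq)).obj F ≅ G),
      Coh.IsCoh F ∧ Epi p ∧ FlatMod.IsFlatOver (f' C f) F ∧
      TFOne.IsQuotOn Xs ((Scheme.Modules.pullback i).obj (In 0)) (cl S) G π ∧
      (Scheme.Modules.pullback (i' C f i hsq)).map p ≫ e.hom = (αI f i hsq C (In 0)).hom ≫ π := by
  obtain ⟨ϖ, hϖ⟩ := IsDiscreteValuationRing.exists_irreducible R
  letI : X.Over (Spec (CommRingCat.of R)) := ⟨f⟩
  obtain ⟨W, hobj, hgen, hcancel, G, π, hG, hbπ, hran⟩ := exists_tower f i hsq hd hS hA hstep hdec hϖ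
  subst hobj
  haveI : IsLocallyNoetherian X := LocallyOfFiniteType.isLocallyNoetherian f
  haveI : IsProper (f' C f) := inferInstance
  haveI : Flat (Spec.map (CommRingCat.ofHom C.φ)) := flat_specMap C
  haveI : Flat (g C f) := inferInstance
  haveI := isClosedImmersion_i' C f i hsq
  obtain ⟨g', hsq'⟩ := exists_residue_square C f i hsq
  letI : (X' C f).Over (Spec (CommRingCat.of C.R')) := ⟨f' C f⟩
  letI : (X' C f).Over (Spec (CommRingCat.of R)) := ⟨g C f ≫ f⟩
  haveI : IsProper ((X' C f) ↘ Spec (CommRingCat.of C.R')) := inferInstanceAs (IsProper (f' C f))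
  let Φ := Scheme.Modules.pullback (g C f)
  haveI : ∀ n, Mono (Φ.map (W.j n)) := fun n => haveI := W.mono n; mono_pullback (g C f) (W.j n)
  have hsm : ∀ (M : (X' C f).Modules), Formal.smulMod R M ϖ = Formal.smulMod C.R' M (C.φ ϖ) := fun M => by
    have h : Coh.toGlobal (g C f ≫ f) ϖ = Coh.toGlobal (f' C f) (C.φ ϖ) := by
      show (g C f ≫ f).appTop ((Scheme.ΓSpecIso (CommRingCat.of R)).inv ϖ) =
        (f' C f).appTop ((Scheme.ΓSpecIso (CommRingCat.of C.R')).inv (C.φ ϖ))
      have h2 := ConcreteCategory.congr_hom (Scheme.ΓSpecIso_inv_naturality (CommRingCat.ofHom C.φ)) ϖ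
      rw [show g C f ≫ f = f' C f ≫ Spec.map (CommRingCat.ofHom C.φ) from pullback.condition,
        Scheme.Hom.comp_appTop]
      exact (congrArg (f' C f).appTop h2).symm
    exact congrArg (Formal.smulModΓ M) h
  let W' : Tower (R := C.R') (X := X' C f) (C.φ ϖ) :=
    { obj := fun n => Φ.obj (W.obj n)
      j := fun n => Φ.map (W.j n)
      t := fun n => Φ.map (W.t n)
      mono := inferInstance
      comp := fun n => by
        rw [← Φ.map_comp, W.comp, FormalPullLib.pullback_smulMod (g C f) rfl]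
        exact hsm _ }
  have hT : ∀ n, W'.T n = Φ.map (W.T n) := by
    intro n
    induction n with
    | zero => exact (Φ.map_id _).symm
    | succ n ih => exact (congrArg (· ≫ Φ.map (W.t n)) ih).trans (Φ.map_comp _ _).symm
  have hgen' : ∀ n (x : X' C f) (u : (St x).obj (W'.obj n)), ∃ v w,
      u = ((St x).map (W'.j n)).hom v + ((St x).map (W'.T n)).hom w := fun n x u => by
    haveI : Epi (W.T n ≫ cokernel.π (W.j n)) := epi_of_stalks _ fun y c => by
      obtain ⟨u, rfl⟩ := stalk_surj (cokernel.π (W.j n)) y c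
      obtain ⟨v, w, rfl⟩ := hgen n y u
      exact ⟨w, by rw [stalk_comp, map_add, (cokernel_eq_zero_iff _ y _).mpr ⟨v, rfl⟩, zero_add]⟩
    haveI := epi_pullback (g C f) (W.T n ≫ cokernel.π (W.j n))
    obtain ⟨w, hw⟩ := stalk_surj (Φ.map (W.T n ≫ cokernel.π (W.j n))) x
      (((St x).map (Φ.map (cokernel.π (W.j n)))).hom u)
    obtain ⟨v, hv⟩ := (pullback_cokernel_iff (g C f) (W.j n) x (u - ((St x).map (Φ.map (W.T n))).hom w)).mp (by
      rw [map_sub, sub_eq_zero]
      exact hw.symm.trans ((congrArg (fun θ => ((St x).map θ).hom w) (Φ.map_comp _ _)).trans (stalk_comp _ _ x w)))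
    exact ⟨v, w, by rw [hT n]; exact sub_eq_iff_eq_add.mp hv.symm⟩
  have hcancel' : ∀ n (x : X' C f) (u : (St x).obj (W'.obj n)),
      (∃ v, ((St x).map (W'.t n)).hom u = ((St x).map (W'.j (n + 1))).hom v) →
        ∃ v, u = ((St x).map (W'.j n)).hom v := fun n x u ⟨v, hv⟩ => by
    have hjt : W.t (n + 1) ≫ W.j (n + 1) = W.j n ≫ W.t n := by
      haveI := W.mono n
      rw [W.comp, ← cancel_mono (W.j n), Category.assoc, W.comp, AlgzCohLib.smulMod_naturality]
    let c : cokernel (W.j n) ⟶ cokernel (W.j (n + 1)) := cokernel.desc _ (W.t n ≫ cokernel.π _) (by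
      rw [← Category.assoc, ← hjt, Category.assoc, cokernel.condition, comp_zero])
    haveI : Mono c := mono_of_stalks c fun y d hd' => by
      obtain ⟨u, rfl⟩ := stalk_surj (cokernel.π (W.j n)) y d
      rw [← stalk_comp, cokernel.π_desc, stalk_comp, cokernel_eq_zero_iff] at hd'
      obtain ⟨w, hw⟩ := hd'
      obtain ⟨v, rfl⟩ := hcancel n y u ⟨w, hw.symm⟩
      exact (cokernel_eq_zero_iff _ y _).mpr ⟨v, rfl⟩
    haveI := mono_pullback (g C f) c
    have h1 : ((St x).map (Φ.map c)).hom (((St x).map (Φ.map (cokernel.π (W.j n)))).hom u) = 0 := by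
      rw [← stalk_comp, ← Φ.map_comp, cokernel.π_desc, Φ.map_comp, stalk_comp]
      exact (pullback_cokernel_iff (g C f) (W.j (n + 1)) x _).mpr ⟨v, hv.symm⟩
    obtain ⟨w, hw⟩ := (pullback_cokernel_iff (g C f) (W.j n) x u).mp (stalk_inj (Φ.map c) x (h1.trans (map_zero _).symm))
    exact ⟨w, hw.symm⟩
  haveI := fun n => (hA n).coh.1
  obtain ⟨F, p, hFc, hp, hflat, hker⟩ := W'.exists_quot hgen' hcancel' (C.irred hϖ)
    fun n => ConsLib.isCoh_pullback (g C f) (hA n).coh
  let α : (Scheme.Modules.pullback (i' C f i hsq)).obj (Φ.obj (W.obj 0)) ≅ (Scheme.Modules.pullback i).obj (W.obj 0) :=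
    (Scheme.Modules.pullbackComp (i' C f i hsq) (g C f)).app _ ≪≫
      (Scheme.Modules.pullbackCongr (i'_g C f i hsq)).app _
  let β : (Scheme.Modules.pullback (i' C f i hsq)).obj (Φ.obj (W.obj 1)) ≅ (Scheme.Modules.pullback i).obj (W.obj 1) :=
    (Scheme.Modules.pullbackComp (i' C f i hsq) (g C f)).app _ ≪≫
      (Scheme.Modules.pullbackCongr (i'_g C f i hsq)).app _
  have hnat : (Scheme.Modules.pullback (i' C f i hsq)).map (Φ.map (W.j 0)) ≫ α.hom =
      β.hom ≫ (Scheme.Modules.pullback i).map (W.j 0) :=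
    ((Scheme.Modules.pullbackComp (i' C f i hsq) (g C f)).hom ≫
      (Scheme.Modules.pullbackCongr (i'_g C f i hsq)).hom).naturality (W.j 0)
  haveI := hp
  haveI := hG.1
  haveI := epi_pullback (i' C f i hsq) p
  obtain ⟨e, he⟩ := exists_iso_of_ker ((Scheme.Modules.pullback (i' C f i hsq)).map p) (α.hom ≫ π) fun z m => by
    obtain ⟨v, rfl⟩ := res_surjective (i' C f i hsq) (Φ.obj (W.obj 0)) z m
    rw [res_map, res_eq_zero_iff (i' C f i hsq) F z (ker_stalkMap (f' C f) (i' C f i hsq) g' hsq' (C.irred hϖ) z)]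
    refine (hker (i' C f i hsq z) v).trans ⟨?_, fun hz => ?_⟩
    · rintro ⟨u, rfl⟩
      rw [← res_map, stalk_comp, ← stalk_comp _ α.hom, hnat, stalk_comp]
      exact stalk_comp_zero _ π hbπ z _
    · rw [stalk_comp] at hz
      obtain ⟨w, hw⟩ := hran z _ hz
      obtain ⟨w, rfl⟩ := stalk_surj β.hom z w
      obtain ⟨w, rfl⟩ := res_surjective (i' C f i hsq) _ z w
      rw [← stalk_comp, ← hnat, stalk_comp, res_map] at hw
      have h2 := stalk_inj α.hom z hw
      obtain ⟨m', hm'⟩ := (res_eq_zero_iff (i' C f i hsq) _ z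
        (ker_stalkMap (f' C f) (i' C f i hsq) g' hsq' (C.irred hϖ) z)
        (v - ((St (i' C f i hsq z)).map (W'.j 0)).hom w)).mp (by
        have h3 := res_add (i' C f i hsq) _ z (v - ((St (i' C f i hsq z)).map (W'.j 0)).hom w)
          (((St (i' C f i hsq z)).map (W'.j 0)).hom w)
        rw [sub_add_cancel] at h3
        exact add_eq_right.mp (h3.symm.trans h2.symm))
      refine ⟨w + ((St (i' C f i hsq z)).map (W'.t 0)).hom m', ?_⟩
      rw [map_add, ← stalk_comp, W'.comp, TFModLib.stalk_smul]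
      exact (congrArg (_ + ·) hm'.symm).trans (add_sub_cancel _ _)
  exact ⟨F, p, G, π, e, hFc, hp, hflat, hG, he⟩

end TFExtLib

end
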